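import Mathlib
import Cfsg.Agent.SmallSimple.EvenOrder

/-!
# Signs of permutations: a 2-element acting as a transposition on a small set and freely outside it

`sign_contra` : task 34 (for S3365).
-/

set_option autoImplicit false

namespace Cfsg.Agent.H755

open Subgroup Equiv.Perm

/-- a homomorphism from a nonabelian simple group to a commutative group is trivial -/
theorem hom_trivial_of_simple {G : Type*} [Group G] [IsSimpleGroup G] (hna : ¬ IsMulCommutative G)
    {A : Type*} [CommGroup A] (f : G →* A) (g : G) : f g = 1 := by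
  rcases (inferInstance : f.ker.Normal).eq_bot_or_eq_top with h | h
  · exfalso
    apply hna
    have hinj : Function.Injective f := (MonoidHom.ker_eq_bot_iff f).1 h
    exact ⟨⟨fun a b => hinj (by rw [map_mul, map_mul, mul_comm])⟩⟩
  · have : g ∈ f.ker := by rw [h]; exact mem_top g
    exact this

/-- all cycles of a permutation have the same length `m` if no power `σ ^ j`, `m ∤ j`, has a fixed point and `σ ^ m = 1` -/
theorem cycleType_eq_replicate {X : Type*} [Fintype X] [DecidableEq X] (σ : Equiv.Perm X) {m : ℕ}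
    (h1 : σ ^ m = 1) (h : ∀ j : ℕ, ¬ m ∣ j → ∀ x : X, (σ ^ j) x ≠ x) :
    ∀ n ∈ σ.cycleType, n = m := by
  intro n hn
  rw [mem_cycleType_iff] at hn
  obtain ⟨c, τ, hστ, hd, hc, hcn⟩ := hn
  have hord : orderOf c = n := by rw [hc.orderOf, hcn]
  have hdv : ∀ x ∈ c.support, ∀ j : ℕ, (σ ^ j) x = (c ^ j) x := by
    intro x hx j
    rw [hστ, hd.commute.mul_pow]
    rw [Equiv.Perm.mul_apply]
    have hτx : τ x = x := by
      rcases hd x with h' | h'
      · exact absurd h' (by rwa [mem_support] at hx)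
      · exact h'
    rw [pow_apply_eq_self_of_apply_eq_self hτx]
  obtain ⟨x, hx⟩ : c.support.Nonempty := by
    rw [← Finset.card_pos, hcn, ← hord]
    exact orderOf_pos c
  apply Nat.dvd_antisymm
  · rw [← hord]
    apply orderOf_dvd_of_pow_eq_one
    rw [hc.pow_eq_one_iff]
    exact ⟨x, by rwa [mem_support] at hx, by rw [← hdv x hx, h1]; rfl⟩
  · by_contra hmn
    apply h n hmn x
    rw [hdv x hx, ← hord, pow_orderOf_eq_one]
    rfl

/-- the sign of an element of a non-cyclic 2-group acting freely is 1 -/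
theorem sign_free {S : Type*} [Group S] [Finite S] (hS : IsPGroup 2 S) (hnc : ¬ IsCyclic S)
    {X : Type*} [Fintype X] [DecidableEq X] [MulAction S X] (hfree : ∀ s : S, s ≠ 1 → ∀ x : X, s • x ≠ x) (s : S) :
    sign (MulAction.toPerm s : Equiv.Perm X) = 1 := by
  classical
  by_cases hs1 : s = 1
  · rw [hs1]
    have : (MulAction.toPerm (1 : S) : Equiv.Perm X) = 1 := by ext x; simp
    rw [this, map_one]
  set σ : Equiv.Perm X := MulAction.toPerm s with hσ
  have hpow : ∀ (j : ℕ) (x : X), (σ ^ j) x = s ^ j • x := by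
    intro j
    induction j with
    | zero => intro x; simp
    | succ j ih => intro x; rw [pow_succ', Equiv.Perm.mul_apply, ih, pow_succ', mul_smul]; rfl
  set m := orderOf s with hm
  have h1 : σ ^ m = 1 := by
    ext x
    rw [hpow, hm, pow_orderOf_eq_one, one_smul]; rfl
  have h2 : ∀ j : ℕ, ¬ m ∣ j → ∀ x : X, (σ ^ j) x ≠ x := by
    intro j hj x
    rw [hpow]
    exact hfree _ (fun h => hj (by rw [hm]; exact orderOf_dvd_of_pow_eq_one h)) x
  have h3 := cycleType_eq_replicate σ h1 h2
  have h4 : σ.cycleType = Multiset.replicate (Multiset.card σ.cycleType) m :=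
    Multiset.eq_replicate.2 ⟨rfl, h3⟩
  set k := Multiset.card σ.cycleType with hk
  have hm1 : m ≠ 1 := fun h => hs1 (orderOf_eq_one_iff.1 h)
  have hmdvd : ¬ m ∣ 1 := fun h => hm1 (Nat.dvd_one.1 h)
  -- the number of points
  have h5 : Fintype.card X = k * m := by
    have h6 : σ.cycleType.sum = σ.support.card := sum_cycleType σ
    rw [h4, Multiset.sum_replicate, smul_eq_mul] at h6
    have h7 : σ.support = Finset.univ := by
      ext x
      simp only [mem_support, Finset.mem_univ, iff_true]
      have := h2 1 hmdvd x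
      rwa [pow_one] at this
    rw [h6, h7, Finset.card_univ]
  -- divisible by the order of S
  have h6 : Nat.card S ∣ Fintype.card X := by
    let : Fintype S := Fintype.ofFinite S
    let : ∀ a : S, Fintype (MulAction.fixedBy X a) := fun a => Fintype.ofFinite _
    let : Fintype (Quotient (MulAction.orbitRel S X)) := Fintype.ofFinite _
    have h7 := MulAction.sum_card_fixedBy_eq_card_orbits_mul_card_group S X
    rw [Finset.sum_eq_single (1 : S)] at h7
    · have h8 : Fintype.card (MulAction.fixedBy X (1 : S)) = Fintype.card X := by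
        rw [← Nat.card_eq_fintype_card, ← Nat.card_eq_fintype_card]
        have : MulAction.fixedBy X (1 : S) = Set.univ := by
          ext x; simp
        rw [this, Nat.card_univ]
      rw [h8] at h7
      rw [h7, Nat.card_eq_fintype_card]
      exact Dvd.intro_left _ rfl
    · intro a _ ha
      rw [← Nat.card_eq_fintype_card]
      have : MulAction.fixedBy X a = ∅ := by
        ext x
        simp only [MulAction.mem_fixedBy, Set.mem_empty_iff_false, iff_false]
        exact hfree a ha x
      rw [this]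
      simp
    · intro h; exact absurd (Finset.mem_univ _) h
  -- |S| = m * even
  obtain ⟨t, ht⟩ : m ∣ Nat.card S := orderOf_dvd_natCard s
  have ht2 : 2 ∣ t := by
    obtain ⟨a, ha⟩ := hS.exists_card_eq
    have htd : t ∣ 2 ^ a := by rw [← ha, ht]; exact Dvd.intro_left _ rfl
    obtain ⟨b, -, hb⟩ := (Nat.dvd_prime_pow Nat.prime_two).1 htd
    rcases Nat.eq_zero_or_pos b with h0 | h0
    · exfalso
      apply hnc
      rw [h0, pow_zero] at hb
      rw [hb, mul_one] at ht
      exact isCyclic_of_orderOf_eq_card s ht.symm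
    · rw [hb]
      exact dvd_pow_self 2 h0.ne'
  have hm0 : 0 < m := orderOf_pos s
  have hk2 : 2 ∣ k := by
    rw [h5, ht] at h6
    obtain ⟨r, hr⟩ := h6
    have h7 : m * k = m * (t * r) := by rw [mul_comm m k, hr, mul_assoc]
    rw [Nat.eq_of_mul_eq_mul_left hm0 h7]
    exact Dvd.dvd.mul_right ht2 r
  rw [sign_of_cycleType, h4, Multiset.sum_replicate, Multiset.card_replicate, smul_eq_mul]
  have : Even (k * m + k) := by
    have := (even_iff_two_dvd.2 hk2)
    exact (this.mul_right m).add this
  rw [this.neg_one_pow]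

/-- Task 34. -/
theorem sign_contra {G Ω : Type*} [Group G] [Finite G] [IsSimpleGroup G]
    (hna : ¬ IsMulCommutative G) [MulAction G Ω] [Finite Ω] (S : Sylow 2 G) (Δ : Set Ω)
    (hfree : ∀ s ∈ (S : Subgroup G), s ≠ 1 → ∀ x ∉ Δ, s • x ≠ x)
    (s : G) (hs : s ∈ (S : Subgroup G)) (b c : Ω) (hbc : b ≠ c) (hb : b ∈ Δ) (hc : c ∈ Δ)
    (hsb : s • b = c) (hsc : s • c = b) (hΔ : ∀ x ∈ Δ, x ≠ b → x ≠ c → s • x = x)
    (hS : ∀ g ∈ (S : Subgroup G), ∀ x ∈ Δ, g • x ∈ Δ) : False := by
  classical
  let : Fintype Ω := Fintype.ofFinite Ω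
  have hs1 : s ≠ 1 := by
    rintro rfl
    rw [one_smul] at hsb
    exact hbc hsb
  have h2 : 2 ∣ Nat.card G := by
    obtain ⟨a, ha⟩ := S.isPGroup'.exists_card_eq
    have h1 : orderOf (⟨s, hs⟩ : (S : Subgroup G)) ∣ 2 ^ a := by rw [← ha]; exact orderOf_dvd_natCard _
    rcases Nat.eq_zero_or_pos a with h0 | h0
    · exfalso
      rw [h0, pow_zero, Nat.dvd_one, orderOf_eq_one_iff] at h1
      exact hs1 (congrArg Subtype.val h1)
    · exact ((dvd_pow_self 2 h0.ne').trans (dvd_of_eq ha.symm)).trans (card_subgroup_dvd_card _)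
  have hnc : ¬ IsCyclic (S : Subgroup G) := SmallSimple.EvenOrder.not_isCyclic_sylow_two hna h2 S
  -- the sign of `s` is 1
  have hsign : sign (MulAction.toPermHom G Ω s) = 1 :=
    hom_trivial_of_simple hna ((sign : Equiv.Perm Ω →* ℤˣ).comp (MulAction.toPermHom G Ω)) s
  -- the complement
  let X : Type _ := {x : Ω // x ∉ Δ}
  have hcomp : ∀ g ∈ (S : Subgroup G), ∀ x ∉ Δ, g • x ∉ Δ := by
    intro g hg x hx h
    apply hx
    have := hS g⁻¹ ((S : Subgroup G).inv_mem hg) _ h
    rwa [inv_smul_smul] at this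
  let act : MulAction (S : Subgroup G) X :=
    { smul := fun g x => ⟨(g : G) • (x : Ω), hcomp g g.2 x x.2⟩
      one_smul := fun x => Subtype.ext (one_smul G (x : Ω))
      mul_smul := fun g h x => Subtype.ext (mul_smul (g : G) (h : G) (x : Ω)) }
  have hfreeX : ∀ g : (S : Subgroup G), g ≠ 1 → ∀ x : X, g • x ≠ x := by
    intro g hg x h
    exact hfree g g.2 (fun h' => hg (Subtype.ext h')) x x.2 (congrArg Subtype.val h)
  have h3 := sign_free S.isPGroup' hnc hfreeX (⟨s, hs⟩ : (S : Subgroup G))
  -- toPerm s = swap b c * ofSubtype (toPerm on X)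
  have h4 : MulAction.toPermHom G Ω s = Equiv.swap b c * ofSubtype (MulAction.toPerm (⟨s, hs⟩ : (S : Subgroup G)) : Equiv.Perm X) := by
    ext x
    rw [Equiv.Perm.mul_apply, MulAction.toPermHom_apply, MulAction.toPerm_apply]
    by_cases hx : x ∈ Δ
    · rw [ofSubtype_apply_of_not_mem _ (fun h => h hx)]
      by_cases hxb : x = b
      · rw [hxb, Equiv.swap_apply_left, hsb]
      · by_cases hxc : x = c
        · rw [hxc, Equiv.swap_apply_right, hsc]
        · rw [Equiv.swap_apply_of_ne_of_ne hxb hxc, hΔ x hx hxb hxc]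
    · rw [ofSubtype_apply_of_mem (p := fun x => x ∉ Δ) (MulAction.toPerm (⟨s, hs⟩ : (S : Subgroup G)) : Equiv.Perm X) hx]
      have h5 : s • x ∉ Δ := hcomp s hs x hx
      have : (((MulAction.toPerm (⟨s, hs⟩ : (S : Subgroup G)) : Equiv.Perm X) ⟨x, hx⟩ : X) : Ω) = s • x := rfl
      rw [this, Equiv.swap_apply_of_ne_of_ne]
      · rintro rfl; exact h5 hb
      · rintro rfl; exact h5 hc
  rw [h4, map_mul, sign_swap hbc, sign_ofSubtype, h3] at hsign
  revert hsign
  decide

end Cfsg.Agent.H755
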