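import Mathlib
import Cfsg.Prelude.Def_CaseTheorems
import Cfsg.Prelude.Def_Transfer
import Cfsg.Agent.TwoFusion.SecRank

/-!
# 2-groups with a small self-centralizing TI configuration have sectional rank at most 4 (task 31, for S3365)
-/

set_option autoImplicit false
set_option linter.unusedVariables false

namespace Cfsg.Agent.H755.Rk

open Subgroup Cfsg.Agent.TwoFusion.SecRank

section Tools

variable {S : Type*} [Group S]

/-- `|A| |B| ≤ |A ∩ B| |N|` -/
theorem card_inf_ge [Finite S] {A B N : Subgroup S} (hA : A ≤ N) (hB : B ≤ N) :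
    Nat.card A * Nat.card B ≤ Nat.card ↥(A ⊓ B) * Nat.card N := by
  have h1 : B.relIndex A ≤ B.relIndex N := relIndex_le_of_le_right hA (by
    have := card_mul_relIndex hB
    intro h0
    rw [h0, mul_zero] at this
    exact (Nat.card_pos (α := N)).ne this)
  have h2 := card_mul_relIndex (inf_le_left : A ⊓ B ≤ A)
  rw [inf_relIndex_left] at h2
  have h3 := card_mul_relIndex hB
  calc Nat.card A * Nat.card B = Nat.card ↥(A ⊓ B) * B.relIndex A * Nat.card B := by rw [h2]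
    _ ≤ Nat.card ↥(A ⊓ B) * B.relIndex N * Nat.card B := by gcongr
    _ = Nat.card ↥(A ⊓ B) * (Nat.card B * B.relIndex N) := by ring
    _ = _ := by rw [h3]

/-- the number of commutators `[x,e]`, `x ∈ A`, is `|A : C_A(e)|` -/
theorem comm_count [Finite S] (A M : Subgroup S) (e : S) (h : ∀ x ∈ A, x * e * x⁻¹ * e⁻¹ ∈ M) :
    Nat.card A ≤ Nat.card M * Nat.card ↥(A ⊓ centralizer ({e} : Set S)) := by
  have h1 : Nat.card (↥A ⧸ ((centralizer ({e} : Set S)).subgroupOf A)) ≤ Nat.card M := by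
    apply Nat.card_le_card_of_injective (fun q => (⟨(q.out : S) * e * (q.out : S)⁻¹ * e⁻¹, h _ q.out.2⟩ : M))
    intro q q' hqq
    have h2 : (q.out : S) * e * (q.out : S)⁻¹ * e⁻¹ = (q'.out : S) * e * (q'.out : S)⁻¹ * e⁻¹ :=
      congrArg Subtype.val hqq
    have h3 : (q.out : S) * e * (q.out : S)⁻¹ = (q'.out : S) * e * (q'.out : S)⁻¹ := mul_right_cancel h2
    rw [← QuotientGroup.out_eq' q, ← QuotientGroup.out_eq' q', QuotientGroup.eq, mem_subgroupOf,
      mem_centralizer_singleton_iff]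
    show (q.out : S)⁻¹ * (q'.out : S) * e = e * ((q.out : S)⁻¹ * (q'.out : S))
    have h4 : (q.out : S)⁻¹ * (q'.out : S) * e = (q.out : S)⁻¹ * ((q'.out : S) * e * (q'.out : S)⁻¹) * q'.out := by group
    rw [h4, ← h3]; group
  have h2 := card_mul_relIndex (inf_le_left : A ⊓ centralizer ({e} : Set S) ≤ A)
  rw [inf_relIndex_left] at h2
  have h3 : (centralizer ({e} : Set S)).relIndex A = Nat.card (↥A ⧸ ((centralizer ({e} : Set S)).subgroupOf A)) := rfl
  rw [← h3] at h1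
  calc Nat.card A = Nat.card ↥(A ⊓ centralizer ({e} : Set S)) * (centralizer ({e} : Set S)).relIndex A := h2.symm
    _ ≤ Nat.card ↥(A ⊓ centralizer ({e} : Set S)) * Nat.card M := Nat.mul_le_mul_left _ h1
    _ = _ := mul_comm _ _

/-- the small case -/
theorem genLE_small [Finite S] (X : Subgroup S) (hX16 : Nat.card X = 16)
    (hcent : ∀ e : S, e ∉ X → Nat.card ↥(X ⊓ centralizer ({e} : Set S)) ≤ 4) (hS : Nat.card S ≤ 64) (K : Subgroup S) :
    GenLE 4 K := by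
  by_cases hKX : K ≤ X
  · apply genLE_of_card_le
    have := Subgroup.card_le_of_le hKX
    rw [hX16] at this
    exact this
  · intro M hMK hsq
    obtain ⟨e, heK, heX⟩ := SetLike.not_le_iff_exists.1 hKX
    have h1 := card_inf_ge (A := K) (B := X) (N := ⊤) le_top le_top
    rw [card_top, hX16] at h1
    have h2 := comm_count (K ⊓ X) M e (fun x hx => comm_mem_of_sq hMK hsq hx.1 heK)
    have h3 : Nat.card ↥(K ⊓ X ⊓ centralizer ({e} : Set S)) ≤ 4 := by
      refine le_trans (Subgroup.card_le_of_le ?_) (hcent e heX)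
      exact inf_le_inf_right _ inf_le_right
    have h4 := card_mul_relIndex hMK
    have hM : 0 < Nat.card M := Nat.card_pos
    have h5 : Nat.card K * 16 ≤ Nat.card M * 4 * 64 := by
      calc Nat.card K * 16 ≤ Nat.card ↥(K ⊓ X) * Nat.card S := h1
        _ ≤ (Nat.card M * 4) * 64 := Nat.mul_le_mul (h2.trans (Nat.mul_le_mul_left _ h3)) hS
    rw [← h4] at h5
    have h6 : Nat.card M * (M.relIndex K * 16) ≤ Nat.card M * 256 := by
      calc Nat.card M * (M.relIndex K * 16) = Nat.card M * M.relIndex K * 16 := by ring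
        _ ≤ Nat.card M * 4 * 64 := h5
        _ = _ := by ring
    have h7 := Nat.le_of_mul_le_mul_left h6 hM
    norm_num
    omega

/-- conjugate subgroup -/
def cj (g : S) (X : Subgroup S) : Subgroup S := X.comap (MulAut.conj g⁻¹).toMonoidHom

theorem mem_cj {g : S} {X : Subgroup S} {y : S} : y ∈ cj g X ↔ g⁻¹ * y * g ∈ X := by
  unfold cj
  rw [mem_comap]
  show g⁻¹ * y * g⁻¹⁻¹ ∈ X ↔ _
  rw [inv_inv]

theorem cj_cj (g h : S) (X : Subgroup S) : cj g (cj h X) = cj (g * h) X := by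
  ext y
  rw [mem_cj, mem_cj, mem_cj]
  have : h⁻¹ * (g⁻¹ * y * g) * h = (g * h)⁻¹ * y * (g * h) := by group
  rw [this]

theorem cj_mono (g : S) {X Y : Subgroup S} (h : X ≤ Y) : cj g X ≤ cj g Y := fun _ hy => mem_cj.2 (h (mem_cj.1 hy))

theorem conj_mem_cj {g : S} {X : Subgroup S} {y : S} (hy : y ∈ X) : g * y * g⁻¹ ∈ cj g X := by
  rw [mem_cj]
  have : g⁻¹ * (g * y * g⁻¹) * g = y := by group
  rwa [this]

theorem card_cj (g : S) (X : Subgroup S) : Nat.card (cj g X) = Nat.card X := by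
  apply Nat.card_congr
  refine ⟨fun y => ⟨g⁻¹ * y * g, mem_cj.1 y.2⟩, fun y => ⟨g * y * g⁻¹, conj_mem_cj y.2⟩, ?_, ?_⟩
  · intro y; apply Subtype.ext; show g * (g⁻¹ * (y : S) * g) * g⁻¹ = y; group
  · intro y; apply Subtype.ext; show g⁻¹ * (g * (y : S) * g⁻¹) * g = y; group

theorem mem_normalizer_iff_cj {g : S} {X : Subgroup S} : g ∈ normalizer (X : Set S) ↔ cj g X = X := by
  rw [mem_normalizer_iff]
  constructor
  · intro h
    ext y
    rw [mem_cj]
    rw [h]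
    show g * (g⁻¹ * y * g) * g⁻¹ ∈ X ↔ y ∈ X
    have : g * (g⁻¹ * y * g) * g⁻¹ = y := by group
    rw [this]
  · intro h y
    show y ∈ X ↔ g * y * g⁻¹ ∈ X
    constructor
    · intro hy
      rw [← h]
      exact conj_mem_cj hy
    · intro hy
      rw [← h, mem_cj] at hy
      have : g⁻¹ * (g * y * g⁻¹) * g = y := by group
      rwa [this] at hy

/-- factorization from orders -/
theorem exists_mul [Finite S] {A B N : Subgroup S} (hA : A ≤ N) (hB : B ≤ N)
    (h : Nat.card ↥(A ⊓ B) * Nat.card N ≤ Nat.card A * Nat.card B) {n : S} (hn : n ∈ N) :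
    ∃ a ∈ A, ∃ b ∈ B, n = a * b := by
  have h1 := card_mul_relIndex (inf_le_left : A ⊓ B ≤ A)
  rw [inf_relIndex_left] at h1
  have h2 := card_mul_relIndex hB
  have hcA : 0 < Nat.card ↥(A ⊓ B) := Nat.card_pos
  have hcB : 0 < Nat.card B := Nat.card_pos
  have h3 : B.relIndex N ≤ B.relIndex A := by
    rw [← h1, ← h2] at h
    have h4 : (Nat.card ↥(A ⊓ B) * Nat.card B) * B.relIndex N ≤ (Nat.card ↥(A ⊓ B) * Nat.card B) * B.relIndex A := by
      calc (Nat.card ↥(A ⊓ B) * Nat.card B) * B.relIndex N = Nat.card ↥(A ⊓ B) * (Nat.card B * B.relIndex N) := by ring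
        _ ≤ Nat.card ↥(A ⊓ B) * B.relIndex A * Nat.card B := h
        _ = _ := by ring
    exact Nat.le_of_mul_le_mul_left h4 (Nat.mul_pos hcA hcB)
  have hbij : Function.Bijective (quotientSubgroupOfEmbeddingOfLE B hA) :=
    (quotientSubgroupOfEmbeddingOfLE B hA).injective.bijective_of_nat_card_le h3
  obtain ⟨q, hq⟩ := hbij.2 (QuotientGroup.mk (⟨n, hn⟩ : N))
  induction q using QuotientGroup.induction_on with
  | H a =>
  rw [quotientSubgroupOfEmbeddingOfLE_apply_mk, QuotientGroup.eq, mem_subgroupOf] at hq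
  refine ⟨a, a.2, (a : S)⁻¹ * n, hq, by group⟩

/-- the hypotheses on `X` -/
structure Good (X : Subgroup S) : Prop where
  comm : ∀ x ∈ X, ∀ y ∈ X, x * y = y * x
  card : Nat.card X = 16
  cent : ∀ e : S, e ∉ X → Nat.card ↥(X ⊓ centralizer ({e} : Set S)) ≤ 4

theorem Good.cj {X : Subgroup S} (h : Good X) (g : S) : Good (cj g X) := by
  refine ⟨?_, ?_, ?_⟩
  · intro x hx y hy
    rw [mem_cj] at hx hy
    have h1 := h.comm _ hx _ hy
    have h2 : x * y = g * ((g⁻¹ * x * g) * (g⁻¹ * y * g)) * g⁻¹ := by group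
    rw [h2, h1]; group
  · rw [card_cj, h.card]
  · intro e he
    rw [mem_cj] at he
    have h1 := h.cent _ he
    refine le_trans (le_of_eq ?_) h1
    have h2 : Rk.cj g X ⊓ centralizer ({e} : Set S) = Rk.cj g (X ⊓ centralizer ({g⁻¹ * e * g} : Set S)) := by
      ext y
      rw [mem_inf, mem_cj, mem_cj, mem_inf, mem_centralizer_singleton_iff, mem_centralizer_singleton_iff]
      refine and_congr_right (fun _ => ?_)
      constructor
      · intro h3
        have h4 : g⁻¹ * y * g * (g⁻¹ * e * g) = g⁻¹ * (y * e) * g := by group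
        rw [h4, h3]; group
      · intro h3
        have h4 : y * e = g * (g⁻¹ * y * g * (g⁻¹ * e * g)) * g⁻¹ := by group
        rw [h4, h3]; group
    rw [h2, card_cj]

/-- two different good subgroups, each normalizing the other, meet in a subgroup of order 4 and generate a group of
order 64 -/
theorem inter [Finite S] {X X₁ N : Subgroup S} (hX : Good X) (hX₁ : Good X₁) (hne : X₁ ≠ X) (hXN : X ≤ N) (hX₁N : X₁ ≤ N)
    (hN : Nat.card N ≤ 64) : Nat.card ↥(X ⊓ X₁) = 4 ∧ Nat.card N = 64 := by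
  have hle : ¬ X₁ ≤ X := by
    intro h
    apply hne
    apply Subgroup.eq_of_le_of_card_ge h
    rw [hX.card, hX₁.card]
  obtain ⟨e, he₁, he⟩ := SetLike.not_le_iff_exists.1 hle
  have h1 : Nat.card ↥(X ⊓ X₁) ≤ 4 := by
    refine le_trans (Subgroup.card_le_of_le ?_) (hX.cent e he)
    refine le_inf inf_le_left ?_
    intro y hy
    rw [mem_centralizer_singleton_iff]
    exact hX₁.comm y hy.2 e he₁
  have h2 := card_inf_ge hXN hX₁N
  rw [hX.card, hX₁.card] at h2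
  have h3 : 256 ≤ Nat.card ↥(X ⊓ X₁) * 64 := h2.trans (Nat.mul_le_mul_left _ hN)
  have h4 : Nat.card ↥(X ⊓ X₁) = 4 := by omega
  refine ⟨h4, ?_⟩
  rw [h4] at h2
  omega

/-- the configuration of order 64 -/
structure Conf (X X₁ N : Subgroup S) : Prop where
  good : Good X
  good₁ : Good X₁
  ne : X₁ ≠ X
  le : X ≤ N
  le₁ : X₁ ≤ N
  card : Nat.card N = 64
  nrm : ∀ n ∈ N, ∀ x ∈ X, n * x * n⁻¹ ∈ X
  nrm₁ : ∀ n ∈ N, ∀ x ∈ X₁, n * x * n⁻¹ ∈ X₁

variable {X X₁ N : Subgroup S}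

theorem Conf.symm (h : Conf X X₁ N) : Conf X₁ X N :=
  ⟨h.good₁, h.good, h.ne.symm, h.le₁, h.le, h.card, h.nrm₁, h.nrm⟩

theorem Conf.card_inf [Finite S] (h : Conf X X₁ N) : Nat.card ↥(X ⊓ X₁) = 4 :=
  (inter h.good h.good₁ h.ne h.le h.le₁ h.card.le).1

theorem Conf.exists_mul [Finite S] (h : Conf X X₁ N) {n : S} (hn : n ∈ N) : ∃ a ∈ X, ∃ b ∈ X₁, n = a * b := by
  apply Rk.exists_mul h.le h.le₁ _ hn
  rw [h.card_inf, h.card, h.good.card, h.good₁.card]

/-- elements of `X` commuting with an element of `N` outside `X` are in `X ∩ X₁` -/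
theorem Conf.mem_of_comm [Finite S] (h : Conf X X₁ N) {n x : S} (hn : n ∈ N) (hnX : n ∉ X) (hx : x ∈ X)
    (hc : x * n = n * x) : x ∈ X ⊓ X₁ := by
  have h1 : X ⊓ X₁ ≤ X ⊓ centralizer ({n} : Set S) := by
    refine le_inf inf_le_left ?_
    intro y hy
    rw [mem_centralizer_singleton_iff]
    obtain ⟨a, ha, b, hb, rfl⟩ := h.exists_mul hn
    rw [← mul_assoc, h.good.comm y hy.1 a ha, mul_assoc, h.good₁.comm y hy.2 b hb, mul_assoc]
  have h2 : X ⊓ X₁ = X ⊓ centralizer ({n} : Set S) := by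
    apply Subgroup.eq_of_le_of_card_ge h1
    rw [h.card_inf]
    exact h.good.cent n hnX
  rw [h2]
  exact ⟨hx, mem_centralizer_singleton_iff.2 hc⟩

/-- commutators with an element of `N` are in `X ∩ X₁` -/
theorem Conf.comm_mem [Finite S] (h : Conf X X₁ N) {n x : S} (hn : n ∈ N) (hx : x ∈ X) :
    x * n * x⁻¹ * n⁻¹ ∈ X ⊓ X₁ := by
  obtain ⟨a, ha, b, hb, rfl⟩ := h.exists_mul hn
  have h1 : x * (a * b) * x⁻¹ * (a * b)⁻¹ = a * (x * b * x⁻¹ * b⁻¹) * a⁻¹ := by
    have : x * (a * b) * x⁻¹ * (a * b)⁻¹ = (x * a) * b * x⁻¹ * b⁻¹ * a⁻¹ := by group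
    rw [this, h.good.comm x hx a ha]; group
  have h2 : x * b * x⁻¹ * b⁻¹ ∈ X ⊓ X₁ := by
    refine ⟨?_, ?_⟩
    · have : x * b * x⁻¹ * b⁻¹ = x * (b * x⁻¹ * b⁻¹) := by group
      rw [this]
      exact X.mul_mem hx (h.nrm b (h.le₁ hb) _ (X.inv_mem hx))
    · exact X₁.mul_mem (h.nrm₁ x (h.le hx) b hb) (X₁.inv_mem hb)
  rw [h1]
  refine ⟨h.nrm a (h.le ha) _ h2.1, h.nrm₁ a (h.le ha) _ h2.2⟩

/-- every element of `X ∩ X₁` is a commutator `[x, n]`, `x ∈ X`, for every `n ∈ N` outside `X` -/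
theorem Conf.exists_comm [Finite S] (h : Conf X X₁ N) {n : S} (hn : n ∈ N) (hnX : n ∉ X) {z : S} (hz : z ∈ X ⊓ X₁) :
    ∃ x ∈ X, x * n * x⁻¹ * n⁻¹ = z := by
  -- the commutators form a subgroup
  let C : Subgroup S :=
    { carrier := {c | ∃ x ∈ X, x * n * x⁻¹ * n⁻¹ = c}
      one_mem' := ⟨1, X.one_mem, by group⟩
      mul_mem' := by
        rintro _ _ ⟨x, hx, rfl⟩ ⟨y, hy, rfl⟩
        refine ⟨x * y, X.mul_mem hx hy, ?_⟩
        have h1 := h.comm_mem hn hy
        have h2 := h.comm_mem hn hx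
        have h3 : x * y * n * (x * y)⁻¹ * n⁻¹ = x * (y * n * y⁻¹ * n⁻¹) * x⁻¹ * (x * n * x⁻¹ * n⁻¹) := by group
        rw [h3, h.good.comm x hx _ h1.1, mul_inv_cancel_right]
        exact h.good.comm _ h1.1 _ h2.1
      inv_mem' := by
        rintro _ ⟨x, hx, rfl⟩
        refine ⟨x⁻¹, X.inv_mem hx, ?_⟩
        have h2 := h.comm_mem hn (X.inv_mem hx)
        have h3 : (x * n * x⁻¹ * n⁻¹)⁻¹ = x * (x⁻¹ * n * x⁻¹⁻¹ * n⁻¹) * x⁻¹ := by group
        rw [h3, h.good.comm x hx _ h2.1, mul_inv_cancel_right] }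
  have hCle : C ≤ X ⊓ X₁ := by
    rintro _ ⟨x, hx, rfl⟩
    exact h.comm_mem hn hx
  have h4 := comm_count X C n (fun x hx => ⟨x, hx, rfl⟩)
  have h5 := h.good.cent n hnX
  rw [h.good.card] at h4
  have h6 : 4 ≤ Nat.card C := by
    by_contra hlt
    push Not at hlt
    have : Nat.card C * Nat.card ↥(X ⊓ centralizer ({n} : Set S)) ≤ 3 * 4 := Nat.mul_le_mul (by omega) h5
    omega
  have h7 : C = X ⊓ X₁ := by
    apply Subgroup.eq_of_le_of_card_ge hCle
    rw [h.card_inf]; exact h6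
  rw [← h7] at hz
  exact hz

theorem Conf.central [Finite S] (h : Conf X X₁ N) {z n : S} (hz : z ∈ X ⊓ X₁) (hn : n ∈ N) : z * n = n * z := by
  obtain ⟨a, ha, b, hb, rfl⟩ := h.exists_mul hn
  rw [← mul_assoc, h.good.comm z hz.1 a ha, mul_assoc, h.good₁.comm z hz.2 b hb, mul_assoc]

/-- `[x², n] = [x, n]²` -/
theorem Conf.comm_sq [Finite S] (h : Conf X X₁ N) {n x : S} (hn : n ∈ N) (hx : x ∈ X) :
    (x * x) * n * (x * x)⁻¹ * n⁻¹ = (x * n * x⁻¹ * n⁻¹) * (x * n * x⁻¹ * n⁻¹) := by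
  have h1 := h.comm_mem hn hx
  have h3 : x * x * n * (x * x)⁻¹ * n⁻¹ = x * (x * n * x⁻¹ * n⁻¹) * x⁻¹ * (x * n * x⁻¹ * n⁻¹) := by group
  rw [h3, h.good.comm x hx _ h1.1, mul_inv_cancel_right]

/-- `[x, n²] = [x, n]²` -/
theorem Conf.comm_sq' [Finite S] (h : Conf X X₁ N) {n x : S} (hn : n ∈ N) (hx : x ∈ X) :
    x * (n * n) * x⁻¹ * (n * n)⁻¹ = (x * n * x⁻¹ * n⁻¹) * (x * n * x⁻¹ * n⁻¹) := by
  have h1 := h.comm_mem hn hx
  have h3 : x * (n * n) * x⁻¹ * (n * n)⁻¹ = (x * n * x⁻¹ * n⁻¹) * (n * (x * n * x⁻¹ * n⁻¹) * n⁻¹) := by group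
  rw [h3, ← h.central h1 hn, mul_inv_cancel_right]

theorem Conf.exists_not [Finite S] (h : Conf X X₁ N) : ∃ b ∈ X₁, b ∉ X := by
  have hle : ¬ X₁ ≤ X := by
    intro h'
    apply h.ne
    apply Subgroup.eq_of_le_of_card_ge h'
    rw [h.good.card, h.good₁.card]
  exact SetLike.not_le_iff_exists.1 hle

/-- `X ∩ X₁` is elementary abelian -/
theorem Conf.sq_inf [Finite S] (h : Conf X X₁ N) {z : S} (hz : z ∈ X ⊓ X₁) : z * z = 1 := by
  by_contra hzz
  obtain ⟨a, ha, ha'⟩ := h.symm.exists_not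
  obtain ⟨y, hy, hyz⟩ := h.symm.exists_comm (h.le ha) ha' (z := z) ⟨hz.2, hz.1⟩
  have h1 : (y * y) * a * (y * y)⁻¹ * a⁻¹ = z * z := by
    rw [h.symm.comm_sq (h.le ha) hy, hyz]
  have hyX : y * y ∉ X := by
    intro hyX
    apply hzz
    rw [← h1, h.good.comm _ hyX a ha]; group
  have hyN : y * y ∈ N := h.le₁ (X₁.mul_mem hy hy)
  -- squaring is surjective on `X ∩ X₁`
  have hsurj : Function.Surjective (fun w : ↥(X ⊓ X₁) => w * w) := by
    rintro ⟨w, hw⟩
    obtain ⟨x, hx, hxw⟩ := h.exists_comm hyN hyX hw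
    rw [h.comm_sq' (h.le₁ hy) hx] at hxw
    exact ⟨⟨x * y * x⁻¹ * y⁻¹, h.comm_mem (h.le₁ hy) hx⟩, Subtype.ext hxw⟩
  have hinj := Finite.injective_iff_surjective.2 hsurj
  have : Fact (Nat.Prime 2) := ⟨Nat.prime_two⟩
  obtain ⟨w, hw⟩ := exists_prime_orderOf_dvd_card' (G := ↥(X ⊓ X₁)) 2 (by rw [h.card_inf]; norm_num)
  have hw2 : w * w = 1 := by rw [← pow_two, ← hw]; exact pow_orderOf_eq_one w
  have : w = 1 := hinj (by show w * w = 1 * 1; rw [hw2, one_mul])
  rw [this, orderOf_one] at hw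
  norm_num at hw

theorem Conf.sq_mem [Finite S] (h : Conf X X₁ N) {x : S} (hx : x ∈ X) : x * x ∈ X ⊓ X₁ := by
  obtain ⟨b, hb, hb'⟩ := h.exists_not
  apply h.mem_of_comm (h.le₁ hb) hb' (X.mul_mem hx hx)
  have h1 := h.comm_sq (h.le₁ hb) hx
  rw [h.sq_inf (h.comm_mem (h.le₁ hb) hx)] at h1
  have h2 : x * x * b = (x * x * b * (x * x)⁻¹ * b⁻¹) * (b * (x * x)) := by group
  rw [h2, h1, one_mul]

/-- `X` is elementary abelian -/
theorem Conf.sq [Finite S] (h : Conf X X₁ N) (Y : Subgroup S) (hYX : Y ≤ X) (hY4 : Nat.card Y = 4)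
    (hYZ : ∀ y ∈ Y, y ∈ X₁ → y = 1) {x : S} (hx : x ∈ X) : x * x = 1 := by
  have hbot : Y ⊓ (X ⊓ X₁) = ⊥ := by
    rw [eq_bot_iff]
    intro y hy
    rw [mem_bot]
    exact hYZ y hy.1 hy.2.2
  obtain ⟨y, hy, z, hz, rfl⟩ := Rk.exists_mul (A := Y) (B := X ⊓ X₁) (N := X) hYX inf_le_left
    (by rw [hbot, card_bot, hY4, h.card_inf, h.good.card]) hx
  have h1 : y * y = 1 := hYZ _ (Y.mul_mem hy hy) (h.sq_mem (hYX hy)).2
  have h2 := h.sq_inf hz
  have h3 : y * z * (y * z) = (y * y) * (z * z) := by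
    have h4 := h.good.comm z hz.1 y (hYX hy)
    calc y * z * (y * z) = y * (z * y) * z := by group
      _ = y * (y * z) * z := by rw [h4]
      _ = _ := by group
  rw [h3, h1, h2, one_mul]

/-- involutions of `N` lie in `X ∪ X₁` -/
theorem Conf.mem_of_sq [Finite S] (h : Conf X X₁ N) (hX2 : ∀ x ∈ X, x * x = 1) (hX₁2 : ∀ x ∈ X₁, x * x = 1)
    {n : S} (hn : n ∈ N) (hn2 : n * n = 1) : n ∈ X ∨ n ∈ X₁ := by
  obtain ⟨a, ha, b, hb, rfl⟩ := h.exists_mul hn
  by_cases hbX : b ∈ X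
  · left; exact X.mul_mem ha hbX
  · right
    apply X₁.mul_mem _ hb
    have h1 : a * b = b * a := by
      have h2 := hX2 a ha
      have h3 := hX₁2 b hb
      have h4 : a * b = (a * b) * (a * b) * (b⁻¹ * a⁻¹) := by group
      rw [hn2, one_mul] at h4
      rw [h4, inv_eq_of_mul_eq_one_right h2, inv_eq_of_mul_eq_one_right h3]
    exact (h.mem_of_comm (h.le₁ hb) hbX ha h1).2

/-- the case of order 128 -/
theorem genLE_big [Finite S] (h : Conf X X₁ N) (hX2 : ∀ x ∈ X, x * x = 1) (hX₁2 : ∀ x ∈ X₁, x * x = 1)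
    (hS : Nat.card S = 128) (hswap : ∀ t ∉ N, ∀ x ∈ X, t * x * t⁻¹ ∈ X₁) (hswap₁ : ∀ t ∉ N, ∀ x ∈ X₁, t * x * t⁻¹ ∈ X)
    (K : Subgroup S) : GenLE 4 K := by
  intro M hMK hsq
  by_contra hlt
  push Not at hlt
  have hMK' := card_mul_relIndex hMK
  have hM0 : 0 < Nat.card M := Nat.card_pos
  -- `rel ≥ 32`
  have hrel32 : 32 ≤ M.relIndex K := by
    have h1 : M.relIndex K ∣ 2 ^ 7 := by
      have h2 : M.relIndex K ∣ Nat.card K := Dvd.intro_left _ hMK'
      have h3 : Nat.card K ∣ Nat.card S := card_subgroup_dvd_card K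
      rw [hS] at h3
      exact (h2.trans h3).trans (by norm_num)
    obtain ⟨b, -, hb⟩ := (Nat.dvd_prime_pow Nat.prime_two).1 h1
    rw [hb] at hlt ⊢
    have hb5 : 5 ≤ b := by
      by_contra hb5
      push Not at hb5
      have : 2 ^ b ≤ 2 ^ 4 := Nat.pow_le_pow_right (by norm_num) (by omega)
      omega
    calc 32 = 2 ^ 5 := by norm_num
      _ ≤ 2 ^ b := Nat.pow_le_pow_right (by norm_num) hb5
  have hK32 : 32 * Nat.card M ≤ Nat.card K := by
    rw [← hMK', mul_comm]; exact Nat.mul_le_mul_left _ hrel32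
  have hcm : ∀ e ∈ K, e ∉ X → ∀ M' : Subgroup S, (∀ x ∈ K ⊓ X, x * e * x⁻¹ * e⁻¹ ∈ M') →
      Nat.card ↥(K ⊓ X) ≤ Nat.card M' * Nat.card ↥(K ⊓ X ⊓ centralizer ({e} : Set S)) :=
    fun e _ _ M' hM' => comm_count (K ⊓ X) M' e hM'
  have hc4 : ∀ e ∈ K, e ∉ X → Nat.card ↥(K ⊓ X ⊓ centralizer ({e} : Set S)) ≤ 4 := by
    intro e _ heX
    exact (Subgroup.card_le_of_le (inf_le_inf_right _ inf_le_right)).trans (h.good.cent e heX)
  have hKX : ¬ K ≤ X := by
    intro hKX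
    have := Subgroup.card_le_of_le hKX
    rw [h.good.card] at this
    omega
  obtain ⟨e, heK, heX⟩ := SetLike.not_le_iff_exists.1 hKX
  have hKX4 : Nat.card ↥(K ⊓ X) ≤ 4 * Nat.card M := by
    have h1 := hcm e heK heX M (fun x hx => comm_mem_of_sq hMK hsq hx.1 heK)
    have h2 := hc4 e heK heX
    calc Nat.card ↥(K ⊓ X) ≤ Nat.card M * Nat.card ↥(K ⊓ X ⊓ centralizer ({e} : Set S)) := h1
      _ ≤ Nat.card M * 4 := Nat.mul_le_mul_left _ h2
      _ = _ := mul_comm _ _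
  have hKXge : Nat.card K * 16 ≤ Nat.card ↥(K ⊓ X) * 128 := by
    have := card_inf_ge (A := K) (B := X) (N := ⊤) le_top le_top
    rwa [card_top, h.good.card, hS] at this
  -- K is not contained in N
  have hKN : ¬ K ≤ N := by
    intro hKN
    have h1 := card_inf_ge (A := K) (B := X) (N := N) hKN h.le
    rw [h.good.card, h.card] at h1
    omega
  obtain ⟨t, htK, htN⟩ := SetLike.not_le_iff_exists.1 hKN
  -- an element of `K ∩ N` outside `X`
  have hKNX : ¬ K ⊓ N ≤ K ⊓ X := by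
    intro hle
    have h1 := Subgroup.card_le_of_le hle
    have h2 := card_inf_ge (A := K) (B := N) (N := ⊤) le_top le_top
    rw [card_top, h.card, hS] at h2
    omega
  obtain ⟨n, hn, hnX'⟩ := SetLike.not_le_iff_exists.1 hKNX
  have hnX : n ∉ X := fun h' => hnX' ⟨hn.1, h'⟩
  -- `M ≤ X ∩ X₁`
  have hMZ : M ≤ X ⊓ X₁ := by
    have h1 := hcm n hn.1 hnX (M ⊓ (X ⊓ X₁)) (fun x hx =>
      ⟨comm_mem_of_sq hMK hsq hx.1 hn.1, h.comm_mem hn.2 hx.2⟩)
    have h2 := hc4 n hn.1 hnX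
    have h3 : Nat.card ↥(K ⊓ X) ≤ Nat.card ↥(M ⊓ (X ⊓ X₁)) * 4 := h1.trans (Nat.mul_le_mul_left _ h2)
    have h4 : Nat.card M ≤ Nat.card ↥(M ⊓ (X ⊓ X₁)) := by omega
    have h5 : M ⊓ (X ⊓ X₁) = M := Subgroup.eq_of_le_of_card_ge inf_le_left h4
    rw [← h5]
    exact inf_le_right
  by_cases hcase : K ⊓ X ≤ X₁
  · have h1 : Nat.card ↥(K ⊓ X) ≤ 4 := by
      rw [← h.card_inf]
      exact Subgroup.card_le_of_le (le_inf inf_le_right hcase)
    have h2 : Nat.card M = 1 := by omega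
    have hMbot : M = ⊥ := (Subgroup.card_eq_one).1 h2
    have h3 : n * n = 1 := by
      have := hsq n hn.1
      rwa [hMbot, mem_bot] at this
    have h4 : n ∈ X₁ := (h.mem_of_sq hX2 hX₁2 hn.2 h3).resolve_left hnX
    have h5 := comm_mem_of_sq hMK hsq htK hn.1
    rw [hMbot, mem_bot, mul_inv_eq_one] at h5
    apply hnX
    rw [← h5]
    exact hswap₁ t htN n h4
  · obtain ⟨a, ha, ha'⟩ := SetLike.not_le_iff_exists.1 hcase
    have h1 := hMZ (comm_mem_of_sq hMK hsq ha.1 htK)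
    have h2 := hswap t htN _ (X.inv_mem ha.2)
    apply ha'
    have h3 : a = (a * t * a⁻¹ * t⁻¹) * (t * a⁻¹ * t⁻¹)⁻¹ := by group
    rw [h3]
    exact X₁.mul_mem h1.2 (X₁.inv_mem h2)

/-- elementary abelian subgroups of order 16 of `N` -/
theorem Conf.eq_or [Finite S] (h : Conf X X₁ N) (hX2 : ∀ x ∈ X, x * x = 1) (hX₁2 : ∀ x ∈ X₁, x * x = 1)
    {A : Subgroup S} (hA : A ≤ N) (hA16 : Nat.card A = 16) (hA2 : ∀ a ∈ A, a * a = 1) : A = X ∨ A = X₁ := by
  have h1 : A ≤ X ∨ A ≤ X₁ := by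
    by_contra hcon
    push Not at hcon
    obtain ⟨a, ha, haX⟩ := SetLike.not_le_iff_exists.1 hcon.1
    obtain ⟨b, hb, hbX₁⟩ := SetLike.not_le_iff_exists.1 hcon.2
    have haX₁ := (h.mem_of_sq hX2 hX₁2 (hA ha) (hA2 a ha)).resolve_left haX
    have hbX := (h.mem_of_sq hX2 hX₁2 (hA hb) (hA2 b hb)).resolve_right hbX₁
    have hab := A.mul_mem ha hb
    rcases h.mem_of_sq hX2 hX₁2 (hA hab) (hA2 _ hab) with h' | h'
    · exact haX ((X.mul_mem_cancel_right hbX).1 h')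
    · exact hbX₁ ((X₁.mul_mem_cancel_left haX₁).1 h')
  rcases h1 with h1 | h1
  · left
    exact Subgroup.eq_of_le_of_card_ge h1 (by rw [hA16, h.good.card])
  · right
    exact Subgroup.eq_of_le_of_card_ge h1 (by rw [hA16, h.good₁.card])

/-- counting conjugates of `Y` -/
theorem relIndex_le [Finite S] (hX : Good X) (hnrm : ∀ n ∈ N, ∀ x ∈ X, n * x * n⁻¹ ∈ X)
    (Y : Subgroup S) (hYX : Y ≤ X) (hY4 : Nat.card Y = 4)
    (hTI : ∀ g : S, g ∉ X → ∀ y ∈ Y, g * y * g⁻¹ ∈ Y → y = 1) : X.relIndex N ≤ 5 := by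
  have hY3 : Nat.card ↥((Y : Set S) \ {1}) = 3 := by
    rw [Nat.card_coe_set_eq, Set.ncard_sdiff_singleton_of_mem Y.one_mem, ← Nat.card_coe_set_eq]
    have : Nat.card ↥(Y : Set S) = 4 := hY4
    rw [this]
  have hX15 : Nat.card ↥((X : Set S) \ {1}) = 15 := by
    rw [Nat.card_coe_set_eq, Set.ncard_sdiff_singleton_of_mem X.one_mem, ← Nat.card_coe_set_eq]
    have : Nat.card ↥(X : Set S) = 16 := hX.card
    rw [this]
  have h1 : Nat.card ((↥N ⧸ (X.subgroupOf N)) × ↥((Y : Set S) \ {1})) ≤ Nat.card ↥((X : Set S) \ {1}) := by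
    apply Nat.card_le_card_of_injective (fun q => (⟨(q.1.out : S) * (q.2 : S) * (q.1.out : S)⁻¹, by
      refine ⟨hnrm _ q.1.out.2 _ (hYX q.2.2.1), ?_⟩
      intro h'
      apply q.2.2.2
      rw [Set.mem_singleton_iff] at h' ⊢
      exact conj_eq_one_iff.1 h'⟩ : ↥((X : Set S) \ {1})))
    rintro ⟨q, y⟩ ⟨q', y'⟩ hqq
    have h2 : (q.out : S) * (y : S) * (q.out : S)⁻¹ = (q'.out : S) * (y' : S) * (q'.out : S)⁻¹ := congrArg Subtype.val hqq
    have h3 : ((q.out : S)⁻¹ * q'.out) * (y' : S) * ((q.out : S)⁻¹ * q'.out)⁻¹ = y := by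
      have : ((q.out : S)⁻¹ * q'.out) * (y' : S) * ((q.out : S)⁻¹ * q'.out)⁻¹ =
        (q.out : S)⁻¹ * ((q'.out : S) * (y' : S) * (q'.out : S)⁻¹) * q.out := by group
      rw [this, ← h2]; group
    have h4 : (q.out : S)⁻¹ * q'.out ∈ X := by
      by_contra hnot
      have h5 := hTI _ hnot _ y'.2.1 (by rw [h3]; exact y.2.1)
      exact y'.2.2 h5
    have hq : q = q' := by
      rw [← QuotientGroup.out_eq' q, ← QuotientGroup.out_eq' q', QuotientGroup.eq, mem_subgroupOf]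
      exact h4
    have h5 : (y' : S) = y := by
      rw [← h3, hX.comm _ h4 _ (hYX y'.2.1), mul_inv_cancel_right]
    exact Prod.ext hq (Subtype.ext h5.symm)
  rw [Nat.card_prod, hY3, hX15] at h1
  have h2 : X.relIndex N = Nat.card (↥N ⧸ (X.subgroupOf N)) := rfl
  rw [h2]
  omega

end Tools

/-- Task 31. -/
theorem rank_SR {S : Type*} [Group S] [Finite S] (hS : IsPGroup 2 S) (X Y : Subgroup S)
    (hX : ∀ x ∈ X, ∀ y ∈ X, x * y = y * x) (hX16 : Nat.card X = 16) (hYX : Y ≤ X)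
    (hY4 : Nat.card Y = 4) (hN : normalizer (Y : Set S) = X)
    (hTI : ∀ g : S, g ∉ X → ∀ y ∈ Y, g * y * g⁻¹ ∈ Y → y = 1) :
    Cfsg.SectionalPRankLE 2 4 S := by
  have : Fact (Nat.Prime 2) := ⟨Nat.prime_two⟩
  apply sectionalPRankLE_of_genLE
  have hgood : Good X := by
    refine ⟨hX, hX16, ?_⟩
    intro e he
    have h1 := card_inf_ge (A := X ⊓ centralizer ({e} : Set S)) (B := Y) (N := X) inf_le_left hYX
    have h2 : X ⊓ centralizer ({e} : Set S) ⊓ Y = ⊥ := by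
      rw [eq_bot_iff]
      intro y hy
      rw [mem_bot]
      apply hTI e he y hy.2
      have h3 := mem_centralizer_singleton_iff.1 hy.1.2
      rw [← h3, mul_inv_cancel_right]
      exact hy.2
    rw [h2, card_bot, hY4, hX16] at h1
    omega
  set N := normalizer (X : Set S) with hNdef
  have hXN : X ≤ N := le_normalizer
  have hnrm : ∀ n ∈ N, ∀ x ∈ X, n * x * n⁻¹ ∈ X := fun n hn x hx => (mem_normalizer_iff.1 hn x).1 hx
  have hN64 : Nat.card N ≤ 64 := by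
    have h1 := relIndex_le hgood hnrm Y hYX hY4 hTI
    have h2 := card_mul_relIndex hXN
    rw [hX16] at h2
    obtain ⟨a, ha⟩ := (hS.to_subgroup N).exists_card_eq
    rw [ha]
    have ha6 : a ≤ 6 := by
      by_contra h6
      push Not at h6
      have : 2 ^ 7 ≤ 2 ^ a := Nat.pow_le_pow_right (by norm_num) h6
      omega
    calc 2 ^ a ≤ 2 ^ 6 := Nat.pow_le_pow_right (by norm_num) ha6
      _ = 64 := by norm_num
  by_cases hNtop : N = ⊤
  · have : Nat.card S ≤ 64 := by rw [← card_top (G := S), ← hNtop]; exact hN64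
    exact genLE_small X hX16 hgood.cent this
  have hnc : NormalizerCondition S := by
    have := hS.isNilpotent
    exact Group.normalizerCondition_of_isNilpotent
  set S₁ := normalizer (N : Set S) with hS₁def
  have hlt : N < S₁ := hnc N (lt_top_iff_ne_top.2 hNtop)
  obtain ⟨g, hgS₁, hgN⟩ := SetLike.exists_of_lt hlt
  set X₁ := cj g X with hX₁def
  have hcjN : ∀ t ∈ S₁, cj t N = N := fun t ht => mem_normalizer_iff_cj.1 ht
  have hX₁N : X₁ ≤ N := by rw [← hcjN g hgS₁]; exact cj_mono g hXN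
  have hne : X₁ ≠ X := fun h => hgN (mem_normalizer_iff_cj.2 h)
  obtain ⟨-, hNcard⟩ := inter hgood (hgood.cj g) hne hXN hX₁N hN64
  have hconf : Conf X X₁ N := by
    refine ⟨hgood, hgood.cj g, hne, hXN, hX₁N, hNcard, hnrm, ?_⟩
    intro n hn x hx
    rw [hX₁def, mem_cj] at hx ⊢
    have h1 : g⁻¹ * n * g ∈ N := by rw [← mem_cj, hcjN g hgS₁]; exact hn
    have h2 := hnrm _ h1 _ hx
    have h3 : g⁻¹ * n * g * (g⁻¹ * x * g) * (g⁻¹ * n * g)⁻¹ = g⁻¹ * (n * x * n⁻¹) * g := by group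
    rwa [h3] at h2
  have hX2 : ∀ x ∈ X, x * x = 1 := by
    intro x hx
    refine hconf.sq Y hYX hY4 ?_ hx
    intro y hy hyX₁
    obtain ⟨e, he, heX⟩ := hconf.exists_not
    apply hTI e heX y hy
    rw [hconf.good₁.comm e he y hyX₁, mul_inv_cancel_right]
    exact hy
  have hX₁2 : ∀ x ∈ X₁, x * x = 1 := by
    intro x hx
    rw [hX₁def, mem_cj] at hx
    have h1 := hX2 _ hx
    have h2 : x * x = g * (g⁻¹ * x * g * (g⁻¹ * x * g)) * g⁻¹ := by group
    rw [h2, h1]; group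
  have hcj2 : ∀ (t : S) (A : Subgroup S), (∀ x ∈ A, x * x = 1) → ∀ x ∈ cj t A, x * x = 1 := by
    intro t A hA x hx
    rw [mem_cj] at hx
    have h1 := hA _ hx
    have h2 : x * x = t * (t⁻¹ * x * t * (t⁻¹ * x * t)) * t⁻¹ := by group
    rw [h2, h1]; group
  have hsw : ∀ t ∈ S₁, t ∉ N → cj t X = X₁ ∧ cj t X₁ = X := by
    intro t ht htN
    have h1 : cj t X ≤ N := by rw [← hcjN t ht]; exact cj_mono t hXN
    have h2 := (hconf.eq_or hX2 hX₁2 h1 (by rw [card_cj, hX16]) (hcj2 t X hX2)).resolve_left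
      (fun h => htN (mem_normalizer_iff_cj.2 h))
    have h3 : cj t X₁ ≤ N := by rw [← hcjN t ht]; exact cj_mono t hX₁N
    refine ⟨h2, (hconf.eq_or hX2 hX₁2 h3 (by rw [card_cj, hconf.good₁.card]) (hcj2 t X₁ hX₁2)).resolve_right ?_⟩
    intro h4
    apply hne
    have h5 : cj t⁻¹ (cj t X₁) = cj t⁻¹ (cj t X) := by rw [h4, h2]
    rw [cj_cj t⁻¹ t X₁, cj_cj t⁻¹ t X, inv_mul_cancel] at h5
    have h6 : ∀ A : Subgroup S, cj 1 A = A := by
      intro A; ext y; rw [mem_cj, inv_one, one_mul, mul_one]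
    rw [h6, h6] at h5
    exact h5
  have hS₁card : Nat.card S₁ = 128 := by
    have h1 := card_mul_relIndex hlt.le
    rw [hNcard] at h1
    have h2 : N.relIndex S₁ ∣ 2 := by
      rw [relIndex_dvd_two_iff]
      refine ⟨g⁻¹, S₁.inv_mem hgS₁, ?_⟩
      intro b hb
      by_cases hbN : b ∈ N
      · right; exact hbN
      · left
        have h3 := (hsw b hb hbN).1
        have h4 : g⁻¹ * b ∈ N := by
          apply mem_normalizer_iff_cj.2
          rw [← cj_cj, h3, hX₁def, cj_cj, inv_mul_cancel]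
          ext y; rw [mem_cj, inv_one, one_mul, mul_one]
        have h5 := (mem_normalizer_iff.1 hgS₁ (g⁻¹ * b)).1 h4
        have h6 : g * (g⁻¹ * b) * g⁻¹ = b * g⁻¹ := by group
        have h7 : g * (g⁻¹ * b) * g⁻¹ ∈ N := h5
        rwa [h6] at h7
    have h3 : N.relIndex S₁ ≠ 1 := fun h => hlt.not_ge (relIndex_eq_one.1 h)
    rcases (Nat.dvd_prime Nat.prime_two).1 h2 with h4 | h4
    · exact absurd h4 h3
    · rw [h4] at h1; omega
  have hD : ∀ A : Subgroup S, A ≤ S₁ → Nat.card A = 16 → (∀ a ∈ A, a * a = 1) → A ≤ N := by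
    intro A hA hA16 hA2
    by_contra hAN
    obtain ⟨t, htA, htN⟩ := SetLike.not_le_iff_exists.1 hAN
    have h1 := card_inf_ge hA hlt.le
    rw [hA16, hNcard, hS₁card] at h1
    have h2 : A ⊓ N ≤ X ⊓ X₁ := by
      intro a ha
      have hat : t * a * t⁻¹ = a := by
        have h3 := hA2 t htA
        have h4 := hA2 a ha.1
        have h5 := hA2 (t * a) (A.mul_mem htA ha.1)
        have h6 : t * a = a * t := by
          have h7 : t * a = (t * a) * (t * a) * (a⁻¹ * t⁻¹) := by group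
          rw [h5, one_mul] at h7
          rw [h7, inv_eq_of_mul_eq_one_right h4, inv_eq_of_mul_eq_one_right h3]
        rw [h6, mul_inv_cancel_right]
      obtain ⟨hs1, hs2⟩ := hsw t (hA htA) htN
      rcases hconf.mem_of_sq hX2 hX₁2 ha.2 (hA2 a ha.1) with h' | h'
      · refine ⟨h', ?_⟩
        have := conj_mem_cj (g := t) h'
        rwa [hat, hs1] at this
      · refine ⟨?_, h'⟩
        have := conj_mem_cj (g := t) h'
        rwa [hat, hs2] at this
    have h3 := Subgroup.card_le_of_le h2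
    rw [hconf.card_inf] at h3
    omega
  have hS₁top : S₁ = ⊤ := by
    by_contra hne'
    have hlt' := hnc S₁ (lt_top_iff_ne_top.2 hne')
    obtain ⟨k, hk, hkS₁⟩ := SetLike.exists_of_lt hlt'
    apply hkS₁
    have hkS : cj k S₁ = S₁ := mem_normalizer_iff_cj.1 hk
    have h1 : cj k X ≤ N := hD _ (by rw [← hkS]; exact cj_mono k (hXN.trans hlt.le)) (by rw [card_cj, hX16]) (hcj2 k X hX2)
    have h2 : cj k X₁ ≤ N := hD _ (by rw [← hkS]; exact cj_mono k (hX₁N.trans hlt.le))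
      (by rw [card_cj, hconf.good₁.card]) (hcj2 k X₁ hX₁2)
    have h3 : cj k N ≤ N := by
      intro n hn
      rw [mem_cj] at hn
      obtain ⟨a, ha, b, hb, hab⟩ := hconf.exists_mul hn
      have h4 : n = (k * a * k⁻¹) * (k * b * k⁻¹) := by
        have : (k * a * k⁻¹) * (k * b * k⁻¹) = k * (a * b) * k⁻¹ := by group
        rw [this, ← hab]; group
      rw [h4]
      exact N.mul_mem (h1 (conj_mem_cj ha)) (h2 (conj_mem_cj hb))
    exact mem_normalizer_iff_cj.2 (Subgroup.eq_of_le_of_card_ge h3 (by rw [card_cj]))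
  have hS128 : Nat.card S = 128 := by rw [← card_top (G := S), ← hS₁top]; exact hS₁card
  refine genLE_big hconf hX2 hX₁2 hS128 ?_ ?_
  · intro t ht x hx
    rw [← (hsw t (by rw [hS₁top]; exact mem_top t) ht).1]
    exact conj_mem_cj hx
  · intro t ht x hx
    have h1 := (hsw t (by rw [hS₁top]; exact mem_top t) ht).2
    have h2 := conj_mem_cj (g := t) hx
    rwa [h1] at h2

end Cfsg.Agent.H755.Rk
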