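import Mathlib
import Cfsg.Agent.H755.RankSR
import Cfsg.Agent.S1234

/-!
# A second small configuration of sectional rank at most 4 (task 32, for S3365)
-/

set_option autoImplicit false
set_option linter.unusedVariables false

namespace Cfsg.Agent.H755.Rk

open Subgroup Cfsg.Agent.TwoFusion.SecRank

section Tools

variable {S : Type*} [Group S]

/-- for an abelian `X` normalized by `e`, the commutators `[x,e]` fill a subgroup -/
theorem exists_comm_of [Finite S] (X C : Subgroup S) (hab : ∀ x ∈ X, ∀ y ∈ X, x * y = y * x) (e : S)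
    (hC : C ≤ X) (hcomm : ∀ x ∈ X, x * e * x⁻¹ * e⁻¹ ∈ C)
    (hcard : Nat.card C * Nat.card ↥(X ⊓ centralizer ({e} : Set S)) ≤ Nat.card X) :
    ∀ c ∈ C, ∃ x ∈ X, x * e * x⁻¹ * e⁻¹ = c := by
  let D : Subgroup S :=
    { carrier := {c | ∃ x ∈ X, x * e * x⁻¹ * e⁻¹ = c}
      one_mem' := ⟨1, X.one_mem, by group⟩
      mul_mem' := by
        rintro _ _ ⟨x, hx, rfl⟩ ⟨y, hy, rfl⟩
        refine ⟨x * y, X.mul_mem hx hy, ?_⟩
        have h1 := hC (hcomm y hy)
        have h2 := hC (hcomm x hx)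
        have h3 : x * y * e * (x * y)⁻¹ * e⁻¹ = x * (y * e * y⁻¹ * e⁻¹) * x⁻¹ * (x * e * x⁻¹ * e⁻¹) := by group
        rw [h3, hab x hx _ h1, mul_inv_cancel_right]
        exact hab _ h1 _ h2
      inv_mem' := by
        rintro _ ⟨x, hx, rfl⟩
        refine ⟨x⁻¹, X.inv_mem hx, ?_⟩
        have h2 := hC (hcomm _ (X.inv_mem hx))
        have h3 : (x * e * x⁻¹ * e⁻¹)⁻¹ = x * (x⁻¹ * e * x⁻¹⁻¹ * e⁻¹) * x⁻¹ := by group
        rw [h3, hab x hx _ h2, mul_inv_cancel_right] }
  have hDle : D ≤ C := by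
    rintro _ ⟨x, hx, rfl⟩
    exact hcomm x hx
  have h4 := comm_count X D e (fun x hx => ⟨x, hx, rfl⟩)
  have h5 : Nat.card C ≤ Nat.card D := by
    have hpos : 0 < Nat.card ↥(X ⊓ centralizer ({e} : Set S)) := Nat.card_pos
    exact Nat.le_of_mul_le_mul_right (hcard.trans h4) hpos
  have h7 : D = C := Subgroup.eq_of_le_of_card_ge hDle h5
  intro c hc
  rw [← h7] at hc
  exact hc

/-- a non-trivial automorphism of a cyclic group of order 4 is the inversion -/
theorem inv_of_cyclic [Finite S] (Y : Subgroup S) (hY4 : Nat.card Y = 4) {y : S} (hy : y ∈ Y) (hyy : y * y ≠ 1)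
    {e : S} (he : ∀ w ∈ Y, e * w * e⁻¹ ∈ Y) (hne : ∃ w ∈ Y, e * w ≠ w * e) : ∀ w ∈ Y, e * w * e⁻¹ = w⁻¹ := by
  have hord : orderOf y = 4 := by
    have h1 : orderOf y ∣ 4 := by
      rw [← hY4]
      have := orderOf_dvd_natCard (⟨y, hy⟩ : Y)
      rwa [orderOf_mk] at this
    have h2 : orderOf y ∣ 2 ^ 2 := by norm_num; exact h1
    obtain ⟨k, hk, hk'⟩ := (Nat.dvd_prime_pow Nat.prime_two).1 h2
    have h3 : ¬ orderOf y ∣ 2 := by
      intro h
      apply hyy
      rw [← pow_two]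
      exact orderOf_dvd_iff_pow_eq_one.1 h
    interval_cases k
    · exfalso; apply h3; rw [hk']; norm_num
    · exfalso; apply h3; rw [hk']; norm_num
    · rw [hk']; norm_num
  have hz : zpowers y = Y := by
    apply Subgroup.eq_of_le_of_card_ge (zpowers_le.2 hy)
    rw [Nat.card_zpowers, hord, hY4]
  have hmem : ∀ w ∈ Y, ∃ k : ℕ, k < 4 ∧ w = y ^ k := by
    intro w hw
    classical
    rw [← hz] at hw
    obtain ⟨k, hk⟩ := Finset.mem_image.1 (mem_zpowers_iff_mem_range_orderOf.1 hw)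
    exact ⟨k, by have := Finset.mem_range.1 hk.1; rwa [hord] at this, hk.2.symm⟩
  have hy4 : y ^ 4 = 1 := by rw [← hord]; exact pow_orderOf_eq_one y
  have hyy' : e * y * e⁻¹ * (e * y * e⁻¹) ≠ 1 := by
    intro h
    apply hyy
    have h1 : e * y * e⁻¹ * (e * y * e⁻¹) = e * (y * y) * e⁻¹ := by group
    rw [h1] at h
    exact conj_eq_one_iff.1 h
  have hey : e * y * e⁻¹ = y⁻¹ := by
    obtain ⟨k, hk, hk'⟩ := hmem _ (he y hy)
    interval_cases k
    · exfalso; apply hyy'; rw [hk']; simp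
    · exfalso
      obtain ⟨w, hw, hw'⟩ := hne
      apply hw'
      obtain ⟨j, -, rfl⟩ := hmem w hw
      have h1 : e * y = y * e := by
        rw [pow_one] at hk'
        calc e * y = e * y * e⁻¹ * e := by group
          _ = _ := by rw [hk']
      exact (Commute.pow_right h1 j)
    · exfalso; apply hyy'; rw [hk', ← pow_add]; exact hy4
    · rw [hk']
      apply eq_inv_of_mul_eq_one_left
      rw [← pow_succ]; exact hy4
  intro w hw
  obtain ⟨k, -, rfl⟩ := hmem w hw
  rw [← conj_pow, hey, inv_pow]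

end Tools

/-- Task 32. -/
theorem rank_SR2 {S : Type*} [Group S] [Finite S] (hS : IsPGroup 2 S) (E Y Y' : Subgroup S)
    (hE32 : Nat.card E = 32) (hYE : Y ≤ E) (hY'E : Y' ≤ E)
    (hY4 : Nat.card Y = 4) (hY'4 : Nat.card Y' = 4) (hiso : Nonempty (Y ≃* Y'))
    (hdisj : Y ⊓ Y' = ⊥) (hnormY' : ∀ g ∈ E, ∀ y ∈ Y', g * y * g⁻¹ ∈ Y')
    (hN : normalizer (Y : Set S) = E)
    (hTI : ∀ g : S, g ∉ E → ∀ y ∈ Y, g * y * g⁻¹ ∈ Y → y = 1)
    (hact : ∀ e ∈ E, e ∉ Y ⊔ Y' → (∃ y ∈ Y, e * y ≠ y * e) ∧ (∃ y ∈ Y', e * y ≠ y * e)) :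
    Cfsg.SectionalPRankLE 2 4 S := by
  have : Fact (Nat.Prime 2) := ⟨Nat.prime_two⟩
  have hnormY : ∀ g ∈ E, ∀ y ∈ Y, g * y * g⁻¹ ∈ Y := by
    intro g hg y hy
    rw [← hN] at hg
    exact (mem_normalizer_iff.1 hg y).1 hy
  set X := Y ⊔ Y' with hXdef
  have hYX : Y ≤ X := le_sup_left
  have hY'X : Y' ≤ X := le_sup_right
  have hXE : X ≤ E := sup_le hYE hY'E
  -- `Y` and `Y'` commute
  have hYY' : ∀ y ∈ Y, ∀ y' ∈ Y', y * y' = y' * y := by
    intro y hy y' hy'
    have h1 : y * y' * y⁻¹ * y'⁻¹ ∈ Y ⊓ Y' := by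
      refine ⟨?_, ?_⟩
      · have h2 : y * y' * y⁻¹ * y'⁻¹ = y * (y' * y⁻¹ * y'⁻¹) := by group
        rw [h2]
        exact Y.mul_mem hy (hnormY y' (hY'E hy') _ (Y.inv_mem hy))
      · exact Y'.mul_mem (hnormY' y (hYE hy) y' hy') (Y'.inv_mem hy')
    rw [hdisj, mem_bot] at h1
    have h2 : y * y' = (y * y' * y⁻¹ * y'⁻¹) * (y' * y) := by group
    rw [h2, h1, one_mul]
  have hab4 : ∀ W : Subgroup S, Nat.card W = 4 → ∀ x ∈ W, ∀ y ∈ W, x * y = y * x := by
    intro W hW x hx y hy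
    have h1 : IsMulCommutative W := by
      have : Nat.card W = 2 ^ 2 := by rw [hW]; norm_num
      exact IsPGroup.isMulCommutative_of_card_eq_prime_sq this
    exact congrArg Subtype.val (h1.is_comm.comm (⟨x, hx⟩ : W) ⟨y, hy⟩)
  have hYab := hab4 Y hY4
  have hY'ab := hab4 Y' hY'4
  have hdec : ∀ x ∈ X, ∃ y ∈ Y, ∃ y' ∈ Y', x = y * y' := by
    let P : Subgroup S :=
      { carrier := {x | ∃ y ∈ Y, ∃ y' ∈ Y', x = y * y'}
        one_mem' := ⟨1, Y.one_mem, 1, Y'.one_mem, by group⟩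
        mul_mem' := by
          rintro _ _ ⟨y, hy, y', hy', rfl⟩ ⟨w, hw, w', hw', rfl⟩
          refine ⟨y * w, Y.mul_mem hy hw, y' * w', Y'.mul_mem hy' hw', ?_⟩
          calc y * y' * (w * w') = y * (y' * w) * w' := by group
            _ = y * (w * y') * w' := by rw [hYY' w hw y' hy']
            _ = _ := by group
        inv_mem' := by
          rintro _ ⟨y, hy, y', hy', rfl⟩
          refine ⟨y⁻¹, Y.inv_mem hy, y'⁻¹, Y'.inv_mem hy', ?_⟩
          rw [mul_inv_rev, hYY' _ (Y.inv_mem hy) _ (Y'.inv_mem hy')] }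
    have hle : X ≤ P := by
      rw [hXdef, sup_le_iff]
      exact ⟨fun y hy => ⟨y, hy, 1, Y'.one_mem, by group⟩, fun y hy => ⟨1, Y.one_mem, y, hy, by group⟩⟩
    intro x hx
    exact hle hx
  have huniq : ∀ y ∈ Y, ∀ y' ∈ Y', ∀ w ∈ Y, ∀ w' ∈ Y', y * y' = w * w' → y = w ∧ y' = w' := by
    intro y hy y' hy' w hw w' hw' h
    have h1 : w⁻¹ * y = w' * y'⁻¹ := by
      have : w⁻¹ * y = w⁻¹ * (y * y') * y'⁻¹ := by group
      rw [this, h]; group
    have h2 : w⁻¹ * y ∈ Y ⊓ Y' := ⟨Y.mul_mem (Y.inv_mem hw) hy, by rw [h1]; exact Y'.mul_mem hw' (Y'.inv_mem hy')⟩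
    rw [hdisj, mem_bot, inv_mul_eq_one] at h2
    subst h2
    exact ⟨rfl, mul_left_cancel h⟩
  have hX16 : Nat.card X = 16 := by
    have h1 : Nat.card (Y × Y') = 16 := by rw [Nat.card_prod, hY4, hY'4]
    rw [← h1]
    symm
    apply Nat.card_congr
    refine Equiv.ofBijective (fun q => (⟨q.1 * q.2, X.mul_mem (hYX q.1.2) (hY'X q.2.2)⟩ : X)) ⟨?_, ?_⟩
    · rintro ⟨y, y'⟩ ⟨w, w'⟩ h
      obtain ⟨h1, h2⟩ := huniq y y.2 y' y'.2 w w.2 w' w'.2 (congrArg Subtype.val h)
      exact Prod.ext (Subtype.ext h1) (Subtype.ext h2)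
    · rintro ⟨x, hx⟩
      obtain ⟨y, hy, y', hy', rfl⟩ := hdec x hx
      exact ⟨(⟨y, hy⟩, ⟨y', hy'⟩), rfl⟩
  have hXab : ∀ x ∈ X, ∀ y ∈ X, x * y = y * x := by
    intro x hx z hz
    obtain ⟨y, hy, y', hy', rfl⟩ := hdec x hx
    obtain ⟨w, hw, w', hw', rfl⟩ := hdec z hz
    calc y * y' * (w * w') = y * (y' * w) * w' := by group
      _ = y * (w * y') * w' := by rw [hYY' w hw y' hy']
      _ = (y * w) * (y' * w') := by group
      _ = (w * y) * (w' * y') := by rw [hYab y hy w hw, hY'ab y' hy' w' hw']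
      _ = w * (y * w') * y' := by group
      _ = w * (w' * y) * y' := by rw [hYY' y hy w' hw']
      _ = _ := by group
  -- centralizers of elements of `E` outside `X`
  have hcentE : ∀ e ∈ E, e ∉ X → Nat.card ↥(X ⊓ centralizer ({e} : Set S)) ≤ 4 := by
    intro e he heX
    obtain ⟨h1, h2⟩ := hact e he heX
    have hhalf : ∀ W : Subgroup S, Nat.card W = 4 → (∃ y ∈ W, e * y ≠ y * e) →
        Nat.card ↥(W ⊓ centralizer ({e} : Set S)) ≤ 2 := by
      intro W hW ⟨y, hy, hy'⟩
      have h3 : Nat.card ↥(W ⊓ centralizer ({e} : Set S)) ∣ 4 := by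
        rw [← hW]; exact card_dvd_of_le inf_le_left
      have h4 : Nat.card ↥(W ⊓ centralizer ({e} : Set S)) ≠ 4 := by
        intro h4
        have h5 : W ⊓ centralizer ({e} : Set S) = W := Subgroup.eq_of_le_of_card_ge inf_le_left (by rw [h4, hW])
        rw [← h5] at hy
        exact hy' (mem_centralizer_singleton_iff.1 hy.2).symm
      have h5 := Nat.le_of_dvd (by norm_num) h3
      interval_cases hc : Nat.card ↥(W ⊓ centralizer ({e} : Set S))
      · norm_num
      · norm_num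
      · norm_num
      · norm_num at h3
      · exact absurd rfl h4
    have h3 := hhalf Y hY4 h1
    have h4 := hhalf Y' hY'4 h2
    have h5 : Nat.card ↥(X ⊓ centralizer ({e} : Set S)) ≤
        Nat.card (↥(Y ⊓ centralizer ({e} : Set S)) × ↥(Y' ⊓ centralizer ({e} : Set S))) := by
      have hmem : ∀ q : ↥(Y ⊓ centralizer ({e} : Set S)) × ↥(Y' ⊓ centralizer ({e} : Set S)),
          (q.1 : S) * q.2 ∈ X ⊓ centralizer ({e} : Set S) := by
        rintro ⟨⟨y, hy⟩, ⟨y', hy'⟩⟩
        exact (X ⊓ centralizer ({e} : Set S)).mul_mem ⟨hYX hy.1, hy.2⟩ ⟨hY'X hy'.1, hy'.2⟩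
      apply Nat.card_le_card_of_surjective (fun q => (⟨(q.1 : S) * q.2, hmem q⟩ : ↥(X ⊓ centralizer ({e} : Set S))))
      rintro ⟨x, hx⟩
      obtain ⟨y, hy, y', hy', rfl⟩ := hdec x hx.1
      have h6 := mem_centralizer_singleton_iff.1 hx.2
      have h7 : (e * y * e⁻¹) * (e * y' * e⁻¹) = y * y' := by
        have : (e * y * e⁻¹) * (e * y' * e⁻¹) = e * (y * y') * e⁻¹ := by group
        rw [this, ← h6, mul_inv_cancel_right]
      obtain ⟨h8, h9⟩ := huniq _ (hnormY e he y hy) _ (hnormY' e he y' hy') y hy y' hy' h7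
      have h10 : ∀ z : S, e * z * e⁻¹ = z → z ∈ centralizer ({e} : Set S) := by
        intro z hz
        rw [mem_centralizer_singleton_iff]
        calc z * e = e * z * e⁻¹ * e := by rw [hz]
          _ = _ := by group
      exact ⟨(⟨y, hy, h10 y h8⟩, ⟨y', hy', h10 y' h9⟩), rfl⟩
    rw [Nat.card_prod] at h5
    calc _ ≤ _ := h5
      _ ≤ 2 * 2 := Nat.mul_le_mul h3 h4
  have hgood : Good X := by
    refine ⟨hXab, hX16, ?_⟩
    intro e heX
    by_cases heE : e ∈ E
    · exact hcentE e heE heX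
    · have h1 := card_inf_ge (A := X ⊓ centralizer ({e} : Set S)) (B := Y) (N := X) inf_le_left hYX
      have h2 : X ⊓ centralizer ({e} : Set S) ⊓ Y = ⊥ := by
        rw [eq_bot_iff]
        intro y hy
        rw [mem_bot]
        apply hTI e heE y hy.2
        have h3 := mem_centralizer_singleton_iff.1 hy.1.2
        rw [← h3, mul_inv_cancel_right]
        exact hy.2
      rw [h2, card_bot, hY4, hX16] at h1
      omega
  -- `X` is normal of index 2 in `E`
  have hnormX : ∀ g ∈ E, ∀ x ∈ X, g * x * g⁻¹ ∈ X := by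
    intro g hg x hx
    obtain ⟨y, hy, y', hy', rfl⟩ := hdec x hx
    have : g * (y * y') * g⁻¹ = (g * y * g⁻¹) * (g * y' * g⁻¹) := by group
    rw [this]
    exact X.mul_mem (hYX (hnormY g hg y hy)) (hY'X (hnormY' g hg y' hy'))
  have hidx : X.relIndex E = 2 := by
    have := card_mul_relIndex hXE
    rw [hX16, hE32] at this
    omega
  have hmulX : ∀ a ∈ E, ∀ b ∈ E, a ∉ X → b ∉ X → a * b ∈ X := by
    intro a ha b hb haX hbX
    have h1 : (X.subgroupOf E).index = 2 := hidx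
    have h2 := (mul_mem_iff_of_index_two h1 (a := ⟨a, ha⟩) (b := ⟨b, hb⟩)).2
    simp only [mem_subgroupOf] at h2
    exact h2 (by tauto)
  obtain ⟨e, he, heX⟩ : ∃ e ∈ E, e ∉ X := by
    have : ¬ E ≤ X := by
      intro h
      have := Subgroup.card_le_of_le h
      rw [hE32, hX16] at this
      omega
    exact SetLike.not_le_iff_exists.1 this
  have hee : e * e ∈ X := hmulX e he e he heX heX
  by_cases hcase : ∀ y ∈ Y, y * y = 1
  · -- elementary case
    have hcase' : ∀ y ∈ Y', y * y = 1 := by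
      obtain ⟨f⟩ := hiso
      intro y hy
      have h1 : (f.symm ⟨y, hy⟩) * (f.symm ⟨y, hy⟩) = 1 := Subtype.ext (hcase _ (f.symm ⟨y, hy⟩).2)
      rw [← map_mul] at h1
      have h2 := (map_eq_one_iff f.symm f.symm.injective).1 h1
      exact congrArg Subtype.val h2
    have hX2 : ∀ x ∈ X, x * x = 1 := by
      intro x hx
      obtain ⟨y, hy, y', hy', rfl⟩ := hdec x hx
      calc y * y' * (y * y') = y * (y' * y) * y' := by group
        _ = y * (y * y') * y' := by rw [hYY' y hy y' hy']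
        _ = (y * y) * (y' * y') := by group
        _ = 1 := by rw [hcase y hy, hcase' y' hy', one_mul]
    set C := X ⊓ centralizer ({e} : Set S) with hC
    have hinv : ∀ z ∈ X, z⁻¹ = z := fun z hz => inv_eq_of_mul_eq_one_right (hX2 z hz)
    have hcomm : ∀ x ∈ X, x * e * x⁻¹ * e⁻¹ ∈ C := by
      intro x hx
      have h1 : x * e * x⁻¹ * e⁻¹ ∈ X := by
        have : x * e * x⁻¹ * e⁻¹ = x * (e * x⁻¹ * e⁻¹) := by group
        rw [this]
        exact X.mul_mem hx (hnormX e he _ (X.inv_mem hx))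
      refine ⟨h1, ?_⟩
      show _ ∈ centralizer ({e} : Set S)
      rw [mem_centralizer_singleton_iff]
      have h2 : e * (x * e * x⁻¹ * e⁻¹) * e⁻¹ = x * e * x⁻¹ * e⁻¹ := by
        have h3 : e * (x * e * x⁻¹ * e⁻¹) * e⁻¹ = (e * x * e⁻¹) * ((e * e) * x⁻¹ * (e * e)⁻¹) := by group
        rw [h3, hXab _ hee _ (X.inv_mem hx), mul_inv_cancel_right]
        have h4 : e * x * e⁻¹ * x⁻¹ = (x * e * x⁻¹ * e⁻¹)⁻¹ := by group
        rw [h4, hinv _ h1]
      calc x * e * x⁻¹ * e⁻¹ * e = (e * (x * e * x⁻¹ * e⁻¹) * e⁻¹) * e := by rw [h2]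
        _ = _ := by group
    have hC4 : Nat.card C = 4 := by
      have h1 := hgood.cent e heX
      have h2 := comm_count X C e hcomm
      rw [hX16] at h2
      have h1' : Nat.card C ≤ 4 := h1
      have h2' : 16 ≤ Nat.card C * Nat.card C := h2
      by_contra hne
      have h3 : Nat.card C ≤ 3 := by omega
      have h4 : Nat.card C * Nat.card C ≤ 3 * 3 := Nat.mul_le_mul h3 h3
      omega
    have heeC : e * e ∈ C := ⟨hee, by
      show _ ∈ centralizer ({e} : Set S)
      rw [mem_centralizer_singleton_iff, mul_assoc]⟩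
    obtain ⟨x, hx, hxe⟩ := exists_comm_of X C hXab e inf_le_left hcomm (by
      rw [← hC, hC4, hX16]) (e * e) heeC
    have hss : (x * e) * (x * e) = 1 := by
      have h1 : e * x * e⁻¹ ∈ X := hnormX e he x hx
      have h2 := hinv _ h1
      have h3 : (x * e) * (x * e) = x * (e * x * e⁻¹) * (e * e) := by group
      rw [h3, ← h2]
      have h4 : x * (e * x * e⁻¹)⁻¹ * (e * e) = (x * e * x⁻¹ * e⁻¹) * (e * e) := by group
      rw [h4, hxe]
      exact hX2 _ hee
    have hsX : x * e ∉ X := fun h => heX ((X.mul_mem_cancel_left hx).1 h)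
    have hsE : x * e ∈ E := E.mul_mem (hXE hx) he
    have hord : orderOf (x * e) = 2 := by
      apply orderOf_eq_prime
      · rw [pow_two]; exact hss
      · intro h; rw [h] at hsX; exact hsX X.one_mem
    have hfix : Nat.card ↥(X ⊓ centralizer ({x * e} : Set S)) = 4 := by
      apply le_antisymm (hgood.cent _ hsX)
      rw [← hC4]
      apply Subgroup.card_le_of_le
      intro z hz
      refine ⟨hz.1, ?_⟩
      show _ ∈ centralizer ({x * e} : Set S)
      rw [mem_centralizer_singleton_iff]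
      have h1 := mem_centralizer_singleton_iff.1 hz.2
      rw [← mul_assoc, hXab z hz.1 x hx, mul_assoc, h1, mul_assoc]
    -- a central element of `E` in `Y`
    obtain ⟨⟨y, hy, hye⟩, -⟩ := hact e he heX
    have hc1 := hcomm y (hYX hy)
    have hcY : y * e * y⁻¹ * e⁻¹ ∈ Y := by
      have : y * e * y⁻¹ * e⁻¹ = y * (e * y⁻¹ * e⁻¹) := by group
      rw [this]
      exact Y.mul_mem hy (hnormY e he _ (Y.inv_mem hy))
    have hcne : y * e * y⁻¹ * e⁻¹ ≠ 1 := by
      intro h
      apply hye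
      have h1 : y * e = (y * e * y⁻¹ * e⁻¹) * (e * y) := by group
      rw [h1, h, one_mul]
    have hcen : ∀ g ∈ E, g * (y * e * y⁻¹ * e⁻¹) = (y * e * y⁻¹ * e⁻¹) * g := by
      have hgX : ∀ g ∈ X, g * (y * e * y⁻¹ * e⁻¹) = (y * e * y⁻¹ * e⁻¹) * g := fun g hg => hXab g hg _ hc1.1
      have hge : e * (y * e * y⁻¹ * e⁻¹) = (y * e * y⁻¹ * e⁻¹) * e := (mem_centralizer_singleton_iff.1 hc1.2).symm
      intro g hg
      by_cases hgX' : g ∈ X
      · exact hgX g hgX'
      · have h1 : g * e⁻¹ ∈ X := hmulX g hg e⁻¹ (E.inv_mem he) hgX' (fun h => heX (inv_mem_iff.1 h))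
        have h2 := hgX _ h1
        calc g * (y * e * y⁻¹ * e⁻¹) = (g * e⁻¹) * (e * (y * e * y⁻¹ * e⁻¹)) := by group
          _ = (g * e⁻¹) * ((y * e * y⁻¹ * e⁻¹) * e) := by rw [hge]
          _ = (g * e⁻¹ * (y * e * y⁻¹ * e⁻¹)) * e := by group
          _ = (y * e * y⁻¹ * e⁻¹ * (g * e⁻¹)) * e := by rw [h2]
          _ = _ := by group
    have hcentC : centralizer (((center E).map E.subtype : Subgroup S) : Set S) = E := by
      apply le_antisymm
      · intro g hg
        by_contra hgE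
        apply hcne
        have h1 : y * e * y⁻¹ * e⁻¹ ∈ ((center E).map E.subtype : Subgroup S) := by
          refine ⟨⟨y * e * y⁻¹ * e⁻¹, hYE hcY⟩, ?_, rfl⟩
          rw [SetLike.mem_coe, mem_center_iff]
          intro k
          exact Subtype.ext (hcen k k.2)
        have h2 := mem_centralizer_iff.1 hg _ h1
        apply hTI g hgE _ hcY
        rw [← h2, mul_inv_cancel_right]
        exact hcY
      · intro g hg
        rw [mem_centralizer_iff]
        rintro _ ⟨z, hz, rfl⟩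
        have := mem_center_iff.1 hz ⟨g, hg⟩
        exact (congrArg Subtype.val this).symm
    have hXel : Cfsg.IsElementaryAbelian 2 X :=
      ⟨⟨⟨fun a b => Subtype.ext (hXab a a.2 b b.2)⟩⟩, fun a ha => by rw [pow_two]; exact hX2 a ha⟩
    exact Cfsg.Agent.S1234.result hS E X hXE hXel hX16 hE32 (x * e) hsE hsX hord hfix hcentC
  · -- cyclic case
    push Not at hcase
    obtain ⟨y, hy, hyy⟩ := hcase
    apply sectionalPRankLE_of_genLE
    obtain ⟨y', hy', hyy'⟩ : ∃ y' ∈ Y', y' * y' ≠ 1 := by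
      obtain ⟨f⟩ := hiso
      refine ⟨f ⟨y, hy⟩, (f ⟨y, hy⟩).2, ?_⟩
      intro h
      apply hyy
      have h1 : f ⟨y, hy⟩ * f ⟨y, hy⟩ = 1 := Subtype.ext h
      rw [← map_mul] at h1
      have h2 := (map_eq_one_iff f f.injective).1 h1
      exact congrArg Subtype.val h2
    have hinvX : ∀ x ∈ X, e * x * e⁻¹ = x⁻¹ := by
      obtain ⟨h1, h2⟩ := hact e he heX
      have h3 := inv_of_cyclic Y hY4 hy hyy (hnormY e he) h1
      have h4 := inv_of_cyclic Y' hY'4 hy' hyy' (hnormY' e he) h2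
      intro x hx
      obtain ⟨w, hw, w', hw', rfl⟩ := hdec x hx
      have h5 : e * (w * w') * e⁻¹ = (e * w * e⁻¹) * (e * w' * e⁻¹) := by group
      rw [h5, h3 w hw, h4 w' hw', mul_inv_rev, hYY' _ (Y.inv_mem hw) _ (Y'.inv_mem hw')]
    have hy0Y : y * y ∈ Y := Y.mul_mem hy hy
    have hy04 : (y * y) * (y * y) = 1 := by
      have h1 : (⟨y, hy⟩ : Y) ^ 4 = 1 := by rw [← hY4]; exact pow_card_eq_one'
      have h2 : y ^ 4 = 1 := congrArg Subtype.val h1
      rw [← h2]; simp only [pow_succ, pow_zero, one_mul, mul_assoc]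
    have hTI' : ∀ g : S, g * (y * y) = (y * y) * g → g ∈ E := by
      intro g hg
      by_contra hgE
      apply hyy
      apply hTI g hgE _ hy0Y
      rw [hg, mul_inv_cancel_right]
      exact hy0Y
    set N := normalizer (X : Set S) with hNdef
    have hXN : X ≤ N := le_normalizer
    have hnrm : ∀ n ∈ N, ∀ x ∈ X, n * x * n⁻¹ ∈ X := fun n hn x hx => (mem_normalizer_iff.1 hn x).1 hx
    have hEN : E ≤ N := by
      intro g hg
      rw [hNdef, mem_normalizer_iff]
      intro h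
      constructor
      · intro hh; exact hnormX g hg h hh
      · intro hh
        have h1 := hnormX g⁻¹ (E.inv_mem hg) _ hh
        have h2 : g⁻¹ * (g * h * g⁻¹) * g⁻¹⁻¹ = h := by group
        rwa [h2] at h1
    have hN64 : Nat.card N ≤ 64 := by
      have h1 : Nat.card (↥N ⧸ (E.subgroupOf N)) ≤ 3 := by
        have h2 : Nat.card ↥(((X ⊓ centralizer ({e} : Set S) : Subgroup S) : Set S) \ {1}) ≤ 3 := by
          rw [Nat.card_coe_set_eq, Set.ncard_sdiff_singleton_of_mem (Subgroup.one_mem _), ← Nat.card_coe_set_eq]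
          have h3 := hgood.cent e heX
          have h4 : Nat.card ↥((X ⊓ centralizer ({e} : Set S) : Subgroup S) : Set S) ≤ 4 := h3
          omega
        refine le_trans ?_ h2
        have hmem : ∀ n ∈ N, n * (y * y) * n⁻¹ ∈ (((X ⊓ centralizer ({e} : Set S) : Subgroup S) : Set S) \ {1}) := by
          intro n hn
          have h3 : n * (y * y) * n⁻¹ ∈ X := hnrm n hn _ (hYX hy0Y)
          refine ⟨⟨h3, ?_⟩, ?_⟩
          · show _ ∈ centralizer ({e} : Set S)
            rw [mem_centralizer_singleton_iff]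
            have h4 := hinvX _ h3
            have h5 : (n * (y * y) * n⁻¹)⁻¹ = n * (y * y) * n⁻¹ := by
              apply inv_eq_of_mul_eq_one_right
              have : n * (y * y) * n⁻¹ * (n * (y * y) * n⁻¹) = n * ((y * y) * (y * y)) * n⁻¹ := by group
              rw [this, hy04]; group
            rw [h5] at h4
            calc n * (y * y) * n⁻¹ * e = (e * (n * (y * y) * n⁻¹) * e⁻¹) * e := by rw [h4]
              _ = _ := by group
          · intro h
            rw [Set.mem_singleton_iff] at h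
            exact hyy (conj_eq_one_iff.1 h)
        apply Nat.card_le_card_of_injective (fun q => (⟨(q.out : S) * (y * y) * (q.out : S)⁻¹, hmem _ q.out.2⟩ :
          ↥(((X ⊓ centralizer ({e} : Set S) : Subgroup S) : Set S) \ {1})))
        intro q q' hqq
        have h3 : (q.out : S) * (y * y) * (q.out : S)⁻¹ = (q'.out : S) * (y * y) * (q'.out : S)⁻¹ := congrArg Subtype.val hqq
        rw [← QuotientGroup.out_eq' q, ← QuotientGroup.out_eq' q', QuotientGroup.eq, mem_subgroupOf]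
        apply hTI'
        show (q.out : S)⁻¹ * (q'.out : S) * (y * y) = (y * y) * ((q.out : S)⁻¹ * (q'.out : S))
        have h4 : (q.out : S)⁻¹ * (q'.out : S) * (y * y) =
          (q.out : S)⁻¹ * ((q'.out : S) * (y * y) * (q'.out : S)⁻¹) * q'.out := by group
        rw [h4, ← h3]; group
      have h2 := card_mul_relIndex hEN
      have h3 : E.relIndex N = Nat.card (↥N ⧸ (E.subgroupOf N)) := rfl
      rw [hE32] at h2
      obtain ⟨a, ha⟩ := (hS.to_subgroup N).exists_card_eq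
      rw [ha]
      have ha6 : a ≤ 6 := by
        by_contra h6
        push Not at h6
        have : 2 ^ 7 ≤ 2 ^ a := Nat.pow_le_pow_right (by norm_num) h6
        omega
      calc 2 ^ a ≤ 2 ^ 6 := Nat.pow_le_pow_right (by norm_num) ha6
        _ = 64 := by norm_num
    by_cases hNtop : N = ⊤
    · have : Nat.card S ≤ 64 := by rw [← card_top (G := S), ← hNtop]; exact hN64
      exact genLE_small X hX16 hgood.cent this
    exfalso
    have hnc : NormalizerCondition S := by
      have := hS.isNilpotent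
      exact Group.normalizerCondition_of_isNilpotent
    have hlt : N < normalizer (N : Set S) := hnc N (lt_top_iff_ne_top.2 hNtop)
    obtain ⟨g, hgS₁, hgN⟩ := SetLike.exists_of_lt hlt
    have hcjN : cj g N = N := mem_normalizer_iff_cj.1 hgS₁
    set X₁ := cj g X with hX₁def
    have hX₁N : X₁ ≤ N := by rw [← hcjN]; exact cj_mono g hXN
    have hne : X₁ ≠ X := fun h => hgN (mem_normalizer_iff_cj.2 h)
    obtain ⟨-, hNcard⟩ := inter hgood (hgood.cj g) hne hXN hX₁N hN64
    have hconf : Conf X X₁ N := by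
      refine ⟨hgood, hgood.cj g, hne, hXN, hX₁N, hNcard, hnrm, ?_⟩
      intro n hn x hx
      rw [hX₁def, mem_cj] at hx ⊢
      have h1 : g⁻¹ * n * g ∈ N := by rw [← mem_cj, hcjN]; exact hn
      have h2 := hnrm _ h1 _ hx
      have h3 : g⁻¹ * n * g * (g⁻¹ * x * g) * (g⁻¹ * n * g)⁻¹ = g⁻¹ * (n * x * n⁻¹) * g := by group
      rwa [h3] at h2
    have hy0X₁ : y * y ∈ X₁ := (hconf.sq_mem (hYX hy)).2
    have hX₁E : X₁ ≤ E := by
      intro f hf
      exact hTI' f (hconf.good₁.comm f hf _ hy0X₁)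
    obtain ⟨-, h64⟩ := inter hgood (hgood.cj g) hne hXE hX₁E (by rw [hE32]; norm_num)
    rw [hE32] at h64
    norm_num at h64

end Cfsg.Agent.H755.Rk
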