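import Mathlib
import Cfsg.Agent.H755.SignContra

/-!
# A transfer argument for elements of order 3 (task 33, for S3365)
-/

set_option autoImplicit false

namespace Cfsg.Agent.H755.Tr

open Subgroup MulAction

/-- A maximal subgroup of a nilpotent group contains the derived subgroup. -/
theorem commutator_le_of_isCoatom {U : Type*} [Group U] [Finite U] (hnil : Group.IsNilpotent U)
    {M : Subgroup U} (hM : IsCoatom M) : commutator U ≤ M := by
  have hn : M.Normal :=
    Subgroup.NormalizerCondition.normal_of_coatom M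
      (Group.normalizerCondition_of_isNilpotent (G := U)) hM
  by_contra hle
  have h1 : commutator U ⊔ M = ⊤ := by
    apply hM.2
    exact lt_of_le_of_ne le_sup_right (fun h => hle (by rw [h]; exact le_sup_left))
  have hmap : (commutator U).map (QuotientGroup.mk' M) = ⊤ := by
    have h2 : (commutator U ⊔ M).map (QuotientGroup.mk' M) = ⊤ := by
      rw [h1]; exact Subgroup.map_top_of_surjective _ (QuotientGroup.mk'_surjective M)
    rw [Subgroup.map_sup, QuotientGroup.map_mk'_self, sup_bot_eq] at h2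
    exact h2
  have hc : commutator (U ⧸ M) = ⊤ := by
    rw [← top_le_iff, ← hmap, commutator_def, Subgroup.map_commutator]
    exact Subgroup.commutator_mono le_top le_top
  have hnt : Nontrivial (U ⧸ M) := QuotientGroup.nontrivial_iff.mpr hM.1
  have hs : Group.IsSolvable (U ⧸ M) := inferInstance
  exact (Group.IsSolvable.commutator_lt_top_of_nontrivial (G := U ⧸ M)).ne hc

/-- A finite nilpotent group with cyclic abelianization is cyclic. -/
theorem isCyclic_of_abelianization {U : Type*} [Group U] [Finite U] (hnil : Group.IsNilpotent U)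
    (hc : IsCyclic (Abelianization U)) : IsCyclic U := by
  obtain ⟨v, hv⟩ := hc.exists_generator
  obtain ⟨g, rfl⟩ := QuotientGroup.mk_surjective v
  refine ⟨g, fun x => ?_⟩
  show x ∈ Subgroup.zpowers g
  by_contra hx
  have hne : Subgroup.zpowers g ≠ ⊤ := fun h => hx (h ▸ Subgroup.mem_top x)
  rcases eq_top_or_exists_le_coatom (Subgroup.zpowers g) with h1 | ⟨M, hM, hgM⟩
  · exact hne h1
  · apply hM.1
    rw [eq_top_iff]
    intro y _
    obtain ⟨k, hk⟩ := Subgroup.mem_zpowers_iff.1 (hv (QuotientGroup.mk y))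
    have h2 : (QuotientGroup.mk (g ^ k) : U ⧸ commutator U) = QuotientGroup.mk y := hk
    rw [QuotientGroup.eq] at h2
    have h3 := commutator_le_of_isCoatom hnil hM h2
    have h4 : g ^ k ∈ M := zpow_mem (hgM (Subgroup.mem_zpowers g)) k
    have : y = g ^ k * ((g ^ k)⁻¹ * y) := by group
    rw [this]
    exact mul_mem h4 h3

/-- A 3-group of order at least 27 with an element whose centralizer has order at most 9. -/
theorem class_facts {P : Type*} [Group P] [Finite P] (h3 : IsPGroup 3 P) (h27 : 27 ≤ Nat.card P) (x : P)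
    (hx : Nat.card (centralizer ({x} : Set P)) ≤ 9) :
    Nat.card (Abelianization P) = 9 ∧ ¬ IsCyclic (Abelianization P) ∧
      Nat.card (centralizer ({x} : Set P)) = 9 ∧
      ∀ y : P, Abelianization.of y = Abelianization.of x → ∃ p : P, y = p * x * p⁻¹ := by
  classical
  have : Fact (Nat.Prime 3) := ⟨Nat.prime_three⟩
  have hnil : Group.IsNilpotent P := h3.isNilpotent
  set C := centralizer ({x} : Set P) with hC
  have hncyc : ¬ IsCyclic (Abelianization P) := by
    intro h
    have hcyc := isCyclic_of_abelianization hnil h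
    have hCtop : C = ⊤ := by
      rw [eq_top_iff]
      intro y _
      rw [hC, mem_centralizer_singleton_iff]
      exact (IsCyclic.isMulCommutative (α := P)).is_comm.comm y x
    rw [hCtop, card_top] at hx
    omega
  -- the conjugacy class and the coset
  let O : Set P := Set.range (fun p : P => p * x * p⁻¹)
  let K : Set P := {y | Abelianization.of y = Abelianization.of x}
  have hOK : O ⊆ K := by
    rintro _ ⟨p, rfl⟩
    show Abelianization.of (p * x * p⁻¹) = Abelianization.of x
    rw [map_mul, map_mul, map_inv]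
    rw [mul_comm (Abelianization.of p), mul_inv_cancel_right]
  have hcO : Nat.card O = C.index := by
    rw [Subgroup.index]
    symm
    let f : P ⧸ C → O := fun q => Quotient.liftOn' q (fun p => (⟨p * x * p⁻¹, p, rfl⟩ : O)) (by
      intro a b hab
      rw [QuotientGroup.leftRel_apply] at hab
      apply Subtype.ext
      show a * x * a⁻¹ = b * x * b⁻¹
      rw [hC, mem_centralizer_singleton_iff] at hab
      have h1 : b = a * (a⁻¹ * b) := by group
      have h2 : b * x * b⁻¹ = a * ((a⁻¹ * b) * x * (a⁻¹ * b)⁻¹) * a⁻¹ := by group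
      rw [h2, hab]
      group)
    apply Nat.card_congr
    refine Equiv.ofBijective f ⟨?_, ?_⟩
    · intro q q' h
      induction q using QuotientGroup.induction_on with
      | H a =>
      induction q' using QuotientGroup.induction_on with
      | H b =>
      have h1 : a * x * a⁻¹ = b * x * b⁻¹ := congrArg Subtype.val h
      rw [QuotientGroup.eq, hC, mem_centralizer_singleton_iff]
      have h2 : a⁻¹ * b * x = a⁻¹ * (b * x * b⁻¹) * b := by group
      rw [h2, ← h1]
      group
    · rintro ⟨_, p, rfl⟩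
      exact ⟨QuotientGroup.mk p, rfl⟩
  have hcK : Nat.card K = Nat.card (commutator P) := by
    apply Nat.card_congr
    refine ⟨fun y => ⟨x⁻¹ * y, ?_⟩, fun z => ⟨x * z, ?_⟩, ?_, ?_⟩
    · have h1 : Abelianization.of (y : P) = Abelianization.of x := y.2
      have h2 : (QuotientGroup.mk (x : P) : P ⧸ commutator P) = QuotientGroup.mk (y : P) := h1.symm
      rwa [QuotientGroup.eq] at h2
    · show Abelianization.of (x * (z : P)) = Abelianization.of x
      have h2 : Abelianization.of (z : P) = 1 := by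
        have : (z : P) ∈ (Abelianization.of : P →* Abelianization P).ker := by
          rw [Abelianization.ker_of]; exact z.2
        exact this
      rw [map_mul, h2, mul_one]
    · intro y; apply Subtype.ext; show x * (x⁻¹ * (y : P)) = y; group
    · intro z; apply Subtype.ext; show x⁻¹ * (x * (z : P)) = z; group
  have hle : C.index ≤ Nat.card (commutator P) := by
    rw [← hcO, ← hcK]
    exact Nat.card_mono (Set.toFinite K) hOK
  have hcard1 : Nat.card C * C.index = Nat.card P := C.card_mul_index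
  have hcard2 : Nat.card (commutator P) * Nat.card (Abelianization P) = Nat.card P :=
    (commutator P).card_mul_index
  have hidx : 0 < C.index := Nat.pos_of_ne_zero C.index_ne_zero_of_finite
  have hcom : 0 < Nat.card (commutator P) := Nat.card_pos
  have hAle : Nat.card (Abelianization P) ≤ Nat.card C := by
    by_contra h
    push Not at h
    have h1 : Nat.card C * C.index < Nat.card (Abelianization P) * Nat.card (commutator P) := by
      calc Nat.card C * C.index < Nat.card (Abelianization P) * C.index := Nat.mul_lt_mul_of_pos_right h hidx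
        _ ≤ Nat.card (Abelianization P) * Nat.card (commutator P) := Nat.mul_le_mul_left _ hle
    rw [hcard1, mul_comm, hcard2] at h1
    exact lt_irrefl _ h1
  have hA3 : IsPGroup 3 (Abelianization P) := h3.of_surjective Abelianization.of QuotientGroup.mk_surjective
  obtain ⟨k, hk⟩ := hA3.exists_card_eq
  have hA9 : Nat.card (Abelianization P) = 9 := by
    have h1 : 3 ^ k ≤ 9 := by rw [← hk]; exact hAle.trans hx
    have hk2 : k < 3 := by
      by_contra h
      push Not at h
      have : 3 ^ 3 ≤ 3 ^ k := Nat.pow_le_pow_right (by norm_num) h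
      omega
    interval_cases k
    · exfalso
      apply hncyc
      have : Subsingleton (Abelianization P) := (Nat.card_eq_one_iff_unique.1 (by simpa using hk)).1
      infer_instance
    · exfalso
      apply hncyc
      exact isCyclic_of_prime_card (p := 3) (by simpa using hk)
    · simpa using hk
  have hC9 : Nat.card C = 9 := le_antisymm hx (hA9 ▸ hAle)
  refine ⟨hA9, hncyc, hC9, ?_⟩
  have heq : Nat.card O = Nat.card K := by
    rw [hcO, hcK]
    rw [hA9] at hcard2
    rw [hC9] at hcard1
    omega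
  have hset : O = K := Set.eq_of_subset_of_ncard_le hOK (by
    rw [← Nat.card_coe_set_eq, ← Nat.card_coe_set_eq, heq]) (Set.toFinite K)
  intro y hy
  have : y ∈ O := by rw [hset]; exact hy
  obtain ⟨p, hp⟩ := this
  exact ⟨p, hp.symm⟩

set_option synthInstance.maxHeartbeats 400000 in
set_option synthInstance.maxSize 1000 in
theorem four_sum : ∀ a b c : ZMod 3 × ZMod 3, (a ≠ 0 ∧ b ≠ 0 ∧ c ≠ 0 ∧ a ≠ b ∧ a ≠ -b ∧ a ≠ c ∧ a ≠ -c ∧ b ≠ c ∧
    b ≠ -c ∧ -(a + b + c) ≠ 0 ∧ -(a + b + c) ≠ a ∧ -(a + b + c) ≠ b ∧ -(a + b + c) ≠ c) → False := by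
  decide +kernel

/-- an elementary abelian group of order 9 -/
theorem exists_equiv {A : Type*} [CommGroup A] [Finite A] (h9 : Nat.card A = 9) (h3 : ∀ a : A, a ^ 3 = 1) :
    ∃ e : A → ZMod 3 × ZMod 3, Function.Injective e ∧ (∀ a b, e (a * b) = e a + e b) := by
  classical
  let M := Additive A
  have hM : ∀ x : M, 3 • x = 0 := fun x => by
    show Additive.ofMul ((Additive.toMul x) ^ 3) = 0
    rw [h3]; rfl
  let _ : Module (ZMod 3) M := AddCommGroup.zmodModule hM
  have : Fact (Nat.Prime 3) := ⟨Nat.prime_three⟩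
  have hfin : Module.Finite (ZMod 3) M := Module.Finite.of_finite
  have hcard : Nat.card M = Nat.card (ZMod 3) ^ Module.finrank (ZMod 3) M := Module.natCard_eq_pow_finrank
  have hr : Module.finrank (ZMod 3) M = 2 := by
    have h1 : Nat.card M = 9 := h9
    rw [h1, Nat.card_zmod] at hcard
    have h2 : 3 ^ 2 = 3 ^ Module.finrank (ZMod 3) M := by rw [← hcard]; norm_num
    exact (Nat.pow_right_injective (by norm_num : 2 ≤ 3) h2).symm
  let B := Module.finBasisOfFinrankEq (ZMod 3) M hr
  refine ⟨fun a => (B.equivFun (Additive.ofMul a) 0, B.equivFun (Additive.ofMul a) 1), ?_, ?_⟩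
  · intro a b hab
    have h0 := congrArg Prod.fst hab
    have h1 := congrArg Prod.snd hab
    dsimp only at h0 h1
    have h2 : B.equivFun (Additive.ofMul a) = B.equivFun (Additive.ofMul b) := by
      funext i
      fin_cases i
      · exact h0
      · exact h1
    exact Additive.ofMul.injective (B.equivFun.injective h2)
  · intro a b
    have h0 : B.equivFun (Additive.ofMul (a * b)) = B.equivFun (Additive.ofMul a) + B.equivFun (Additive.ofMul b) := by
      rw [← map_add]; rfl
    ext
    · show B.equivFun (Additive.ofMul (a * b)) 0 = _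
      rw [h0]; rfl
    · show B.equivFun (Additive.ofMul (a * b)) 1 = _
      rw [h0]; rfl

/-- a subset of an elementary abelian group of order 9 with at most one of `a, a⁻¹`, not containing 1, of size not
divisible by 3, has product different from 1 -/
theorem prod_ne_one {A : Type*} [CommGroup A] [Finite A] [DecidableEq A] (h9 : Nat.card A = 9) (h3 : ∀ a : A, a ^ 3 = 1)
    (T : Finset A) (h1 : (1 : A) ∉ T) (hinv : ∀ a ∈ T, ∀ b ∈ T, b ≠ a⁻¹) (hmod : ¬ 3 ∣ T.card)
    (hprod : ∏ a ∈ T, a = 1) : False := by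
  classical
  let _ : Fintype A := Fintype.ofFinite A
  have hcard : Fintype.card A = 9 := by rw [← Nat.card_eq_fintype_card]; exact h9
  have hle : T.card ≤ 4 := by
    have hd : Disjoint T (T.image (·⁻¹)) := by
      rw [Finset.disjoint_left]
      intro b hb hb'
      obtain ⟨a, ha, rfl⟩ := Finset.mem_image.1 hb'
      exact hinv a ha _ hb rfl
    have h2 : (T ∪ T.image (·⁻¹)) ⊆ Finset.univ.erase 1 := by
      intro b hb
      rw [Finset.mem_erase]
      refine ⟨?_, Finset.mem_univ _⟩
      rintro rfl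
      rcases Finset.mem_union.1 hb with h | h
      · exact h1 h
      · obtain ⟨a, ha, ha'⟩ := Finset.mem_image.1 h
        rw [inv_eq_one] at ha'
        exact h1 (ha' ▸ ha)
    have h3 := Finset.card_le_card h2
    rw [Finset.card_union_of_disjoint hd, Finset.card_image_of_injective _ inv_injective,
      Finset.card_erase_of_mem (Finset.mem_univ _), Finset.card_univ, hcard] at h3
    omega
  obtain ⟨e, hinj, hadd⟩ := exists_equiv h9 h3
  have he1 : e 1 = 0 := by
    have := hadd 1 1
    rw [mul_one] at this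
    exact (add_eq_left.1 this.symm)
  have heinv : ∀ a, e a⁻¹ = - e a := by
    intro a
    have := hadd a⁻¹ a
    rw [inv_mul_cancel, he1] at this
    exact (neg_eq_of_add_eq_zero_left this.symm).symm
  have hne0 : ∀ a ∈ T, e a ≠ 0 := by
    intro a ha h
    rw [← he1] at h
    exact h1 (hinj h ▸ ha)
  have hneneg : ∀ a ∈ T, ∀ b ∈ T, e a ≠ - e b := by
    intro a ha b hb h
    rw [← heinv] at h
    exact hinv b hb a ha (hinj h)
  have hT0 : T.card ≠ 0 := fun h => hmod (by rw [h]; exact dvd_zero 3)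
  have hT3 : T.card ≠ 3 := fun h => hmod (by rw [h])
  rcases (by omega : T.card = 1 ∨ T.card = 2 ∨ T.card = 4) with h | h | h
  · obtain ⟨a, rfl⟩ := Finset.card_eq_one.1 h
    rw [Finset.prod_singleton] at hprod
    exact h1 (by rw [hprod]; exact Finset.mem_singleton_self _)
  · obtain ⟨a, b, hab, rfl⟩ := Finset.card_eq_two.1 h
    rw [Finset.prod_pair hab] at hprod
    exact hinv a (by simp) b (by simp) (eq_inv_of_mul_eq_one_right hprod)
  · obtain ⟨x, T', hx, rfl, hT'⟩ := Finset.card_eq_succ.1 h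
    obtain ⟨a, b, c, hab, hac, hbc, rfl⟩ := Finset.card_eq_three.1 hT'
    rw [Finset.prod_insert hx, Finset.prod_insert (by simp [hab, hac]), Finset.prod_pair hbc] at hprod
    have hx' : e x = -(e a + e b + e c) := by
      have h4 := congrArg e hprod
      rw [he1, hadd, hadd, hadd] at h4
      have h5 : e x = -(e a + (e b + e c)) := eq_neg_of_add_eq_zero_left h4
      rw [h5, add_assoc]
    have hxa : x ≠ a := fun h => hx (by rw [h]; simp)
    have hxb : x ≠ b := fun h => hx (by rw [h]; simp)
    have hxc : x ≠ c := fun h => hx (by rw [h]; simp)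
    refine four_sum (e a) (e b) (e c) ⟨hne0 a (by simp), hne0 b (by simp), hne0 c (by simp),
      hinj.ne hab, hneneg _ (by simp) _ (by simp), hinj.ne hac, hneneg _ (by simp) _ (by simp),
      hinj.ne hbc, hneneg _ (by simp) _ (by simp), ?_, ?_, ?_, ?_⟩
    · rw [← hx']; exact hne0 x (by simp)
    · rw [← hx']; exact hinj.ne hxa
    · rw [← hx']; exact hinj.ne hxb
    · rw [← hx']; exact hinj.ne hxc

section Transfer

variable {G : Type*} [Group G] (P : Subgroup G) (s : G)

open Classical in
/-- the class in the abelianization, 1 outside `P` -/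
noncomputable def val (y : G) : Abelianization P :=
  if h : y ∈ P then Abelianization.of ⟨y, h⟩ else 1

theorem val_of_mem {y : G} (h : y ∈ P) : val P y = Abelianization.of ⟨y, h⟩ := by
  unfold val; rw [dif_pos h]

theorem val_conj {p : G} (hp : p ∈ P) (y : G) : val P (p⁻¹ * y * p) = val P y := by
  by_cases h : y ∈ P
  · have h' : p⁻¹ * y * p ∈ P := P.mul_mem (P.mul_mem (P.inv_mem hp) h) hp
    rw [val_of_mem P h, val_of_mem P h']
    have : (⟨p⁻¹ * y * p, h'⟩ : P) = ⟨p, hp⟩⁻¹ * ⟨y, h⟩ * ⟨p, hp⟩ := rfl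
    rw [this, map_mul, map_mul, map_inv, mul_comm (Abelianization.of (⟨p, hp⟩ : P))⁻¹, inv_mul_cancel_right]
  · have h' : p⁻¹ * y * p ∉ P := by
      intro h'
      apply h
      have h2 : y = p * (p⁻¹ * y * p) * p⁻¹ := by group
      rw [h2]
      exact P.mul_mem (P.mul_mem hp h') (P.inv_mem hp)
    unfold val
    rw [dif_neg h, dif_neg h']

/-- the class of the conjugate of `s` attached to a coset -/
noncomputable def fv (q : G ⧸ P) : Abelianization P := val P (q.out⁻¹ * s * q.out)

theorem fv_mk (g : G) : fv P s (QuotientGroup.mk g) = val P (g⁻¹ * s * g) := by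
  obtain ⟨p, hp⟩ := QuotientGroup.mk_out_eq_mul P g
  unfold fv
  rw [hp]
  have : (g * (p : G))⁻¹ * s * (g * p) = (p : G)⁻¹ * (g⁻¹ * s * g) * p := by group
  rw [this, val_conj P p.2]

theorem smul_mk_eq_iff (c g : G) : c • (QuotientGroup.mk g : G ⧸ P) = QuotientGroup.mk g ↔ g⁻¹ * c * g ∈ P := by
  have : c • (QuotientGroup.mk g : G ⧸ P) = QuotientGroup.mk (c * g) := rfl
  rw [this, eq_comm, QuotientGroup.eq, mul_assoc]

/-- the transfer of an element of order 3 as a product over the fixed cosets -/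
theorem transfer_eq_prod [Finite G] [Fintype (G ⧸ P)] [DecidableEq (G ⧸ P)] (hs : s ^ 3 = 1) :
    MonoidHom.transfer (Abelianization.of : P →* Abelianization P) s =
      ∏ q ∈ Finset.univ.filter (fun q : G ⧸ P => s • q = q), fv P s q := by
  classical
  let _ : Fintype (Quotient (orbitRel (zpowers s) (G ⧸ P))) := Fintype.ofFinite _
  rw [MonoidHom.transfer_eq_prod_quotient_orbitRel_zpowers_quot]
  symm
  have hfix : ∀ q : G ⧸ P, s • q = q → ∀ n : ℤ, s ^ n • q = q := by
    intro q hq n
    have : q ∈ fixedBy (G ⧸ P) s := hq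
    exact (mem_fixedBy_zpow this n)
  have horb : ∀ q q' : G ⧸ P, s • q = q →
      (Quotient.mk'' q' : Quotient (orbitRel (zpowers s) (G ⧸ P))) = Quotient.mk'' q → q' = q := by
    intro q q' hq h
    have h1 : (orbitRel (zpowers s) (G ⧸ P)) q' q := Quotient.eq''.1 h
    rw [orbitRel_apply] at h1
    obtain ⟨⟨_, n, rfl⟩, hn⟩ := h1
    have h2 : s ^ n • q = q' := hn
    rw [← h2, hfix q hq]
  refine Finset.prod_of_injOn (fun q => (Quotient.mk'' q : Quotient (orbitRel (zpowers s) (G ⧸ P)))) ?_ ?_ ?_ ?_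
  · intro q hq q' hq' h
    rw [Finset.mem_coe, Finset.mem_filter] at hq'
    exact horb q' q hq'.2 h
  · intro q _
    exact Finset.mem_coe.2 (Finset.mem_univ _)
  · intro o _ ho
    have hnf : s • o.out ≠ o.out := by
      intro h
      apply ho
      refine ⟨o.out, ?_, Quotient.out_eq' o⟩
      rw [Finset.mem_coe, Finset.mem_filter]
      exact ⟨Finset.mem_univ _, h⟩
    have hper : Function.minimalPeriod (s • ·) o.out = 3 := by
      have h1 : Function.minimalPeriod (s • ·) o.out ∣ 3 := by
        apply Function.IsPeriodicPt.minimalPeriod_dvd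
        show (s • ·)^[3] o.out = o.out
        rw [smul_iterate]
        show s ^ 3 • o.out = o.out
        rw [hs, one_smul]
      rcases (Nat.dvd_prime Nat.prime_three).1 h1 with h2 | h2
      · exfalso
        apply hnf
        exact Function.minimalPeriod_eq_one_iff_isFixedPt.1 h2
      · exact h2
    rw [← val_of_mem]
    rw [hper, hs, mul_one, inv_mul_cancel]
    rw [val_of_mem P P.one_mem]
    exact map_one _
  · intro q hq
    rw [Finset.mem_filter] at hq
    have h1 : (Quotient.mk'' q : Quotient (orbitRel (zpowers s) (G ⧸ P))).out = q :=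
      horb q _ hq.2 (Quotient.out_eq' _)
    have h2 : Function.minimalPeriod (s • ·) q = 1 :=
      Function.minimalPeriod_eq_one_iff_isFixedPt.2 hq.2
    rw [← val_of_mem]
    rw [h1, h2, pow_one]
    rfl

end Transfer

/-- Task 33. -/
theorem tr_contra {G : Type*} [Group G] [Finite G] [IsSimpleGroup G] (hna : ¬ IsMulCommutative G)
    (P : Sylow 3 G) (hP : 27 ≤ Nat.card P) (s : G) (hs : orderOf s = 3)
    (hc : ¬ 27 ∣ Nat.card (centralizer ({s} : Set G)))
    (hinv : ∀ g : G, g * s * g⁻¹ ≠ s⁻¹) : False := by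
  classical
  have : Fact (Nat.Prime 3) := ⟨Nat.prime_three⟩
  have hs3 : s ^ 3 = 1 := by rw [← hs]; exact pow_orderOf_eq_one s
  have hs1 : s ≠ 1 := by
    rintro rfl
    rw [orderOf_one] at hs
    norm_num at hs
  have h3 : IsPGroup 3 (P : Subgroup G) := P.isPGroup'
  -- centralizers in `P` of conjugates of `s`
  have hcent : ∀ x : (P : Subgroup G), (∃ g : G, (x : G) = g⁻¹ * s * g) →
      Nat.card (centralizer ({x} : Set (P : Subgroup G))) ≤ 9 := by
    rintro x ⟨g, hg⟩
    obtain ⟨k, hk⟩ := (h3.to_subgroup (centralizer ({x} : Set (P : Subgroup G)))).exists_card_eq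
    have h1 : Nat.card (centralizer ({x} : Set (P : Subgroup G))) ∣ Nat.card (centralizer ({s} : Set G)) := by
      have h2 : Nat.card ((centralizer ({x} : Set (P : Subgroup G))).map
          ((MulAut.conj g).toMonoidHom.comp (P : Subgroup G).subtype)) =
          Nat.card (centralizer ({x} : Set (P : Subgroup G))) := by
        apply card_map_of_injective
        exact (MulAut.conj g).injective.comp (P : Subgroup G).subtype_injective
      rw [← h2]
      apply card_dvd_of_le
      rintro _ ⟨y, hy, rfl⟩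
      rw [SetLike.mem_coe, mem_centralizer_singleton_iff] at hy
      rw [mem_centralizer_singleton_iff]
      have hy' : (y : G) * (x : G) = (x : G) * (y : G) := congrArg Subtype.val hy
      show g * (y : G) * g⁻¹ * s = s * (g * (y : G) * g⁻¹)
      have hsx : s = g * (x : G) * g⁻¹ := by rw [hg]; group
      rw [hsx]
      have h5 : g * (y : G) * g⁻¹ * (g * (x : G) * g⁻¹) = g * ((y : G) * (x : G)) * g⁻¹ := by group
      rw [h5, hy']; group
    by_contra h
    push Not at h
    apply hc
    rw [hk] at h h1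
    have hk3 : 3 ≤ k := by
      by_contra hlt
      push Not at hlt
      have : 3 ^ k ≤ 3 ^ 2 := Nat.pow_le_pow_right (by norm_num) (by omega)
      omega
    exact (pow_dvd_pow 3 hk3 : 3 ^ 3 ∣ 3 ^ k).trans h1
  have hfacts : ∀ x : (P : Subgroup G), (∃ g : G, (x : G) = g⁻¹ * s * g) → _ := fun x hx =>
    class_facts h3 hP x (hcent x hx)
  let _ : Fintype (G ⧸ (P : Subgroup G)) := Fintype.ofFinite _
  set Fx : Finset (G ⧸ (P : Subgroup G)) := Finset.univ.filter (fun q => s • q = q) with hFx
  set f : G ⧸ (P : Subgroup G) → Abelianization (P : Subgroup G) := fv (P : Subgroup G) s with hf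
  -- elements attached to fixed cosets
  have hmemFx : ∀ g : G, (QuotientGroup.mk g : G ⧸ (P : Subgroup G)) ∈ Fx ↔ g⁻¹ * s * g ∈ (P : Subgroup G) := by
    intro g
    rw [hFx, Finset.mem_filter, smul_mk_eq_iff]
    simp
  -- number of fixed cosets
  have hmod : ¬ 3 ∣ Fx.card := by
    have h4 : IsPGroup 3 (zpowers s) := by
      apply IsPGroup.of_card (n := 1)
      rw [Nat.card_zpowers, hs, pow_one]
    have h5 := h4.card_modEq_card_fixedPoints (G ⧸ (P : Subgroup G))
    have h6 : Nat.card (fixedPoints (zpowers s) (G ⧸ (P : Subgroup G))) = Fx.card := by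
      have : fixedPoints (zpowers s) (G ⧸ (P : Subgroup G)) = ↑Fx := by
        ext q
        rw [mem_fixedPoints, hFx, Finset.coe_filter]
        constructor
        · intro h
          exact ⟨Finset.mem_univ _, h ⟨s, mem_zpowers s⟩⟩
        · rintro ⟨-, h⟩ ⟨_, n, rfl⟩
          have h7 : q ∈ fixedBy (G ⧸ (P : Subgroup G)) s := h
          exact mem_fixedBy_zpow h7 n
      rw [this, Nat.card_coe_set_eq, Set.ncard_coe_finset]
    rw [h6] at h5
    intro h7
    have h8 : ¬ 3 ∣ Nat.card (G ⧸ (P : Subgroup G)) := P.not_dvd_index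
    exact h8 ((Nat.ModEq.dvd_iff h5 (dvd_refl 3)).2 h7)
  -- a conjugate of `s` attached to a coset
  have hx0 : ∀ q ∈ Fx, ∃ (g : G) (hg : g⁻¹ * s * g ∈ (P : Subgroup G)), q = QuotientGroup.mk g ∧
      f q = Abelianization.of (⟨g⁻¹ * s * g, hg⟩ : (P : Subgroup G)) := by
    intro q hq
    induction q using QuotientGroup.induction_on with
    | H g =>
    have hg := (hmemFx g).1 hq
    exact ⟨g, hg, rfl, by rw [hf, fv_mk, val_of_mem _ hg]⟩
  -- the size of the fibres
  have hfib : ∀ q₀ ∈ Fx, (Fx.filter (fun q => f q = f q₀)).card * 9 = Nat.card (centralizer ({s} : Set G)) := by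
    intro q₀ hq₀
    obtain ⟨g₀, hg₀, hq₀', hf₀⟩ := hx0 q₀ hq₀
    set x₀ : (P : Subgroup G) := ⟨g₀⁻¹ * s * g₀, hg₀⟩ with hx₀
    obtain ⟨-, -, hC9, hcl⟩ := hfacts x₀ ⟨g₀, rfl⟩
    have horb : (↑(Fx.filter (fun q => f q = f q₀)) : Set (G ⧸ (P : Subgroup G))) =
        orbit (centralizer ({s} : Set G)) q₀ := by
      ext q
      rw [Finset.coe_filter, Set.mem_ofPred_eq]
      constructor
      · rintro ⟨hq, hfq⟩
        obtain ⟨g, hg, rfl, hfg⟩ := hx0 q hq
        rw [hfg, hf₀] at hfq
        obtain ⟨p, hp⟩ := hcl _ hfq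
        have hp' : g⁻¹ * s * g = p * (g₀⁻¹ * s * g₀) * (p : G)⁻¹ := congrArg Subtype.val hp
        refine ⟨⟨g * p * g₀⁻¹, ?_⟩, ?_⟩
        · rw [mem_centralizer_singleton_iff]
          have h9 : g * (p : G) * g₀⁻¹ * s = g * (p * (g₀⁻¹ * s * g₀) * (p : G)⁻¹) * p * g₀⁻¹ := by group
          rw [h9, ← hp']; group
        · rw [hq₀']
          show (QuotientGroup.mk (g * p * g₀⁻¹ * g₀) : G ⧸ (P : Subgroup G)) = QuotientGroup.mk g
          rw [QuotientGroup.eq]
          have h9 : (g * (p : G) * g₀⁻¹ * g₀)⁻¹ * g = (p : G)⁻¹ := by group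
          rw [h9]
          exact (P : Subgroup G).inv_mem p.2
      · rintro ⟨⟨c, hc'⟩, rfl⟩
        rw [mem_centralizer_singleton_iff] at hc'
        have h9 : (c * g₀)⁻¹ * s * (c * g₀) = g₀⁻¹ * s * g₀ := by
          have : (c * g₀)⁻¹ * s * (c * g₀) = g₀⁻¹ * (c⁻¹ * (s * c)) * g₀ := by group
          rw [this, ← hc']; group
        have h10 : (fun m : centralizer ({s} : Set G) => m • q₀) ⟨c, mem_centralizer_singleton_iff.2 hc'⟩ =
            QuotientGroup.mk (c * g₀) := by
          rw [hq₀']; rfl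
        rw [h10]
        refine ⟨(hmemFx _).2 (by rw [h9]; exact hg₀), ?_⟩
        rw [hf₀, hf, fv_mk, h9, val_of_mem _ hg₀]
    have hstab : Nat.card (stabilizer (centralizer ({s} : Set G)) q₀) = 9 := by
      rw [← hC9]
      have hmem : ∀ c : centralizer ({s} : Set G), c ∈ stabilizer (centralizer ({s} : Set G)) q₀ ↔
          g₀⁻¹ * (c : G) * g₀ ∈ (P : Subgroup G) := by
        intro c
        rw [mem_stabilizer_iff, hq₀']
        exact smul_mk_eq_iff _ _ _
      apply Nat.card_congr
      refine ⟨fun c => ⟨⟨g₀⁻¹ * ((c : centralizer ({s} : Set G)) : G) * g₀, (hmem _).1 c.2⟩, ?_⟩,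
        fun p => ⟨⟨g₀ * ((p : (P : Subgroup G)) : G) * g₀⁻¹, ?_⟩, ?_⟩, ?_, ?_⟩
      · rw [mem_centralizer_singleton_iff]
        apply Subtype.ext
        have h9 := mem_centralizer_singleton_iff.1 (c : centralizer ({s} : Set G)).2
        show g₀⁻¹ * ((c : centralizer ({s} : Set G)) : G) * g₀ * (g₀⁻¹ * s * g₀) =
          (g₀⁻¹ * s * g₀) * (g₀⁻¹ * ((c : centralizer ({s} : Set G)) : G) * g₀)
        have h10 : g₀⁻¹ * ((c : centralizer ({s} : Set G)) : G) * g₀ * (g₀⁻¹ * s * g₀) =
          g₀⁻¹ * (((c : centralizer ({s} : Set G)) : G) * s) * g₀ := by group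
        rw [h10, h9]; group
      · rw [mem_centralizer_singleton_iff]
        have h9 := congrArg Subtype.val (mem_centralizer_singleton_iff.1 p.2)
        have h9' : ((p : (P : Subgroup G)) : G) * (g₀⁻¹ * s * g₀) = (g₀⁻¹ * s * g₀) * ((p : (P : Subgroup G)) : G) := h9
        have h10 : g₀ * ((p : (P : Subgroup G)) : G) * g₀⁻¹ * s =
          g₀ * (((p : (P : Subgroup G)) : G) * (g₀⁻¹ * s * g₀)) * g₀⁻¹ := by group
        rw [h10, h9']; group
      · rw [hmem]
        show g₀⁻¹ * (g₀ * ((p : (P : Subgroup G)) : G) * g₀⁻¹) * g₀ ∈ (P : Subgroup G)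
        have h10 : g₀⁻¹ * (g₀ * ((p : (P : Subgroup G)) : G) * g₀⁻¹) * g₀ = ((p : (P : Subgroup G)) : G) := by group
        rw [h10]
        exact (p : (P : Subgroup G)).2
      · intro c
        apply Subtype.ext
        apply Subtype.ext
        show g₀ * (g₀⁻¹ * ((c : centralizer ({s} : Set G)) : G) * g₀) * g₀⁻¹ = ((c : centralizer ({s} : Set G)) : G)
        group
      · intro p
        apply Subtype.ext
        apply Subtype.ext
        show g₀⁻¹ * (g₀ * ((p : (P : Subgroup G)) : G) * g₀⁻¹) * g₀ = ((p : (P : Subgroup G)) : G)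
        group
    have h9 := Nat.card_congr (orbitProdStabilizerEquivGroup (centralizer ({s} : Set G)) q₀)
    rw [Nat.card_prod, hstab, Nat.card_coe_set_eq, ← horb, Set.ncard_coe_finset] at h9
    exact h9
  -- the set of classes
  obtain ⟨q₀, hq₀⟩ : Fx.Nonempty := by
    rw [← Finset.card_pos]
    exact Nat.pos_of_ne_zero (fun h => hmod (by rw [h]; exact dvd_zero 3))
  have hm := hfib q₀ hq₀
  set m := (Fx.filter (fun q => f q = f q₀)).card with hmdef
  have hfibm : ∀ q ∈ Fx, (Fx.filter (fun q' => f q' = f q)).card = m := by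
    intro q hq
    have := hfib q hq
    rw [← hm] at this
    exact Nat.eq_of_mul_eq_mul_right (by norm_num) this
  have hm3 : ¬ 3 ∣ m := by
    rintro ⟨t, ht⟩
    apply hc
    rw [← hm, ht]
    exact ⟨t, by ring⟩
  set T := Fx.image f with hT
  have hcardT : Fx.card = T.card * m := by
    rw [Finset.card_eq_sum_card_image f Fx]
    rw [Finset.sum_congr rfl (g := fun _ => m)]
    · rw [Finset.sum_const, smul_eq_mul]
    · intro a ha
      obtain ⟨q, hq, rfl⟩ := Finset.mem_image.1 ha
      exact hfibm q hq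
  have hT3 : ¬ 3 ∣ T.card := fun h => hmod (by rw [hcardT]; exact Dvd.dvd.mul_right h m)
  obtain ⟨g₀, hg₀, hq₀', hf₀⟩ := hx0 q₀ hq₀
  obtain ⟨hA9, hAnc, -, -⟩ := hfacts ⟨g₀⁻¹ * s * g₀, hg₀⟩ ⟨g₀, rfl⟩
  have hA3 : ∀ a : Abelianization (P : Subgroup G), a ^ 3 = 1 := by
    intro a
    have h1 : orderOf a ∣ 9 := by rw [← hA9]; exact orderOf_dvd_natCard a
    have h2 : orderOf a ∣ 3 ^ 2 := by norm_num; exact h1
    obtain ⟨k, hk, hk'⟩ := (Nat.dvd_prime_pow Nat.prime_three).1 h2
    have hk1 : k ≤ 1 := by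
      by_contra h
      have hk2 : k = 2 := by omega
      apply hAnc
      apply isCyclic_of_orderOf_eq_card a
      rw [hk', hk2, hA9]; norm_num
    apply orderOf_dvd_iff_pow_eq_one.1
    rw [hk']
    exact (pow_dvd_pow 3 hk1).trans (by norm_num)
  -- the transfer is trivial
  have htr : ∏ q ∈ Fx, f q = 1 := by
    have h1 := hom_trivial_of_simple hna
      (MonoidHom.transfer (Abelianization.of : (P : Subgroup G) →* Abelianization (P : Subgroup G))) s
    rw [transfer_eq_prod (P : Subgroup G) s hs3] at h1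
    exact h1
  have hprod : ∏ a ∈ T, a = 1 := by
    have h1 := Finset.prod_comp (s := Fx) (fun a : Abelianization (P : Subgroup G) => a) f
    rw [htr] at h1
    have h2 : ∏ b ∈ T, b ^ m = 1 := by
      rw [h1]
      apply Finset.prod_congr rfl
      intro a ha
      obtain ⟨q, hq, rfl⟩ := Finset.mem_image.1 ha
      rw [hfibm q hq]
    rw [Finset.prod_pow] at h2
    have h3' := hA3 (∏ a ∈ T, a)
    have h4 : Nat.Coprime m 3 := ((Nat.Prime.coprime_iff_not_dvd Nat.prime_three).2 hm3).symm
    have h5 : orderOf (∏ a ∈ T, a) ∣ Nat.gcd m 3 :=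
      Nat.dvd_gcd (orderOf_dvd_of_pow_eq_one h2) (orderOf_dvd_of_pow_eq_one h3')
    rw [h4.gcd_eq_one, Nat.dvd_one, orderOf_eq_one_iff] at h5
    exact h5
  refine prod_ne_one hA9 hA3 T ?_ ?_ hT3 hprod
  · intro h
    obtain ⟨q, hq, hq1⟩ := Finset.mem_image.1 h
    obtain ⟨g, hg, -, hfg⟩ := hx0 q hq
    obtain ⟨-, -, -, hcl⟩ := hfacts ⟨g⁻¹ * s * g, hg⟩ ⟨g, rfl⟩
    rw [hfg] at hq1
    obtain ⟨p, hp⟩ := hcl 1 (by rw [map_one, hq1])
    have hp' : (1 : G) = p * (g⁻¹ * s * g) * (p : G)⁻¹ := congrArg Subtype.val hp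
    apply hs1
    have h9 : s = g * (p : G)⁻¹ * (p * (g⁻¹ * s * g) * (p : G)⁻¹) * p * g⁻¹ := by group
    rw [h9, ← hp']; group
  · intro a ha b hb hab
    obtain ⟨q, hq, rfl⟩ := Finset.mem_image.1 ha
    obtain ⟨q', hq', rfl⟩ := Finset.mem_image.1 hb
    obtain ⟨g, hg, -, hfg⟩ := hx0 q hq
    obtain ⟨g', hg', -, hfg'⟩ := hx0 q' hq'
    obtain ⟨-, -, -, hcl⟩ := hfacts ⟨g⁻¹ * s * g, hg⟩ ⟨g, rfl⟩
    rw [hfg, hfg'] at hab
    obtain ⟨p, hp⟩ := hcl (⟨g'⁻¹ * s * g', hg'⟩ : (P : Subgroup G))⁻¹ (by rw [map_inv, hab, inv_inv])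
    have hp' : (g'⁻¹ * s * g')⁻¹ = p * (g⁻¹ * s * g) * (p : G)⁻¹ := congrArg Subtype.val hp
    apply hinv (g' * p * g⁻¹)
    have h9 : g' * (p : G) * g⁻¹ * s * (g' * (p : G) * g⁻¹)⁻¹ = g' * (p * (g⁻¹ * s * g) * (p : G)⁻¹) * g'⁻¹ := by group
    rw [h9, ← hp']; group

end Cfsg.Agent.H755.Tr
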